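import Groth.Agent.H8Props.DiagonalTorDim
import Groth.Agent.H17.SmoothPoint
import Groth.Agent.S9442
import Mathlib.RingTheory.EssentialFiniteness
import Mathlib.RingTheory.Localization.LocalizationLocalization

/-!
# A flat essentially finite type local algebra with perfect diagonal is a localization of a smooth algebra
-/

set_option autoImplicit false
set_option linter.style.haveILetI false
set_option backward.isDefEq.respectTransparency false

noncomputable section

universe u

open TensorProduct IsLocalRing

namespace Groth.Agent.H11LCI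

open Groth.Agent.H8Props

variable {A B C : Type u} [CommRing A] [CommRing B] [CommRing C] [Algebra A B] [Algebra A C] [Algebra C B]
  [IsScalarTower A C B] [IsLocalRing B]

/-- Smoothness at a point transports along an isomorphism. -/
theorem isSmoothAt_comap_equiv {k R S : Type u} [CommRing k] [CommRing R] [CommRing S] [Algebra k R] [Algebra k S]
    (e : R ≃ₐ[k] S) (q : Ideal S) [q.IsPrime] (h : Algebra.IsSmoothAt k q) :
    Algebra.IsSmoothAt k (q.comap e.toAlgHom) := by
  haveI : Algebra.FormallySmooth k (Localization.AtPrime q) := h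
  letI := e.toAlgHom.toRingHom.toAlgebra
  haveI : IsScalarTower k R S := IsScalarTower.of_algebraMap_eq fun a => (e.commutes a).symm
  haveI : IsLocalization (q.comap e.toAlgHom).primeCompl (Localization.AtPrime q) := by
    refine ⟨⟨fun y => IsLocalization.map_units (M := q.primeCompl) (Localization.AtPrime q) ⟨e y.1, y.2⟩,
      fun z => ?_, fun {x y} hxy => ?_⟩⟩
    · obtain ⟨⟨a, b⟩, hab⟩ := IsLocalization.surj q.primeCompl z
      refine ⟨(e.symm a, ⟨e.symm b.1, fun hb => b.2 ?_⟩), ?_⟩
      · have h' : e (e.symm b.1) ∈ q := hb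
        rwa [e.apply_symm_apply] at h'
      · change z * algebraMap S _ (e (e.symm b.1)) = algebraMap S _ (e (e.symm a))
        rw [e.apply_symm_apply, e.apply_symm_apply]
        exact hab
    · obtain ⟨c, hc⟩ := IsLocalization.exists_of_eq (M := q.primeCompl) hxy
      refine ⟨⟨e.symm c.1, fun hb => c.2 ?_⟩, e.injective ?_⟩
      · have h' : e (e.symm c.1) ∈ q := hb
        rwa [e.apply_symm_apply] at h'
      · rw [map_mul, map_mul, e.apply_symm_apply]
        exact hc
  exact Algebra.FormallySmooth.of_equiv
    ((IsLocalization.algEquiv (q.comap e.toAlgHom).primeCompl (Localization.AtPrime q)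
      (Localization.AtPrime (q.comap e.toAlgHom))).restrictScalars k)

/-- Descent of smoothness to a fibre. -/
theorem exists_descend {A C κ K : Type u} [CommRing A] [CommRing C] [Field κ] [Field K] [Algebra A C] [Algebra A κ]
    [Algebra A K] [Algebra κ K] [IsScalarTower A κ K] [Algebra.FiniteType A C] (q'' : Ideal (K ⊗[A] C))
    [q''.IsPrime] (hs : Algebra.IsSmoothAt K q'') :
    ∃ (qb : Ideal (κ ⊗[A] C)) (_ : qb.IsPrime),
      qb.comap (Algebra.TensorProduct.includeRight : C →ₐ[A] κ ⊗[A] C) =
          q''.comap (Algebra.TensorProduct.includeRight : C →ₐ[A] K ⊗[A] C) ∧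
        Algebra.IsSmoothAt κ qb := by
  let e : K ⊗[κ] (κ ⊗[A] C) ≃ₐ[K] K ⊗[A] C := Algebra.TensorProduct.cancelBaseChange A κ K K C
  let q' : Ideal (K ⊗[κ] (κ ⊗[A] C)) := q''.comap e.toAlgHom
  haveI : q'.IsPrime := Ideal.comap_isPrime _ _
  haveI : Algebra.IsSmoothAt K (A := K ⊗[κ] (κ ⊗[A] C)) q' := isSmoothAt_comap_equiv e q'' hs
  let qb : Ideal (κ ⊗[A] C) := q'.comap (Algebra.TensorProduct.includeRight : _ →ₐ[κ] K ⊗[κ] (κ ⊗[A] C))
  haveI : qb.IsPrime := Ideal.comap_isPrime _ _
  letI : Algebra (κ ⊗[A] C) (K ⊗[κ] (κ ⊗[A] C)) := Algebra.TensorProduct.rightAlgebra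
  haveI : q'.LiesOver qb := ⟨rfl⟩
  haveI : Algebra.FinitePresentation κ (κ ⊗[A] C) := Algebra.FinitePresentation.of_finiteType.mp inferInstance
  refine ⟨qb, inferInstance, ?_, H17.SmoothPoint.isSmoothAt_of_baseChange K qb q'⟩
  ext c
  change e ((1 : K) ⊗ₜ[κ] ((1 : κ) ⊗ₜ[A] c)) ∈ q'' ↔ (1 : K) ⊗ₜ[A] c ∈ q''
  rw [Algebra.TensorProduct.cancelBaseChange_tmul, one_smul]

/-- The fibre is smooth at the point. -/
theorem isSmoothAt_fiber [IsLocalRing A] [Module.Flat A B] [Algebra.FiniteType A C] [Algebra (B ⊗[A] B) B]
    (hmul : ∀ x y : B, algebraMap (B ⊗[A] B) B (x ⊗ₜ[A] y) = x * y)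
    (h : DRing.HasFiniteTorDim (B ⊗[A] B) B) (M : Submonoid C) [IsLocalization M B]
    [IsLocalHom (algebraMap A B)] :
    ∃ (qb : Ideal ((maximalIdeal A).Fiber C)) (_ : qb.IsPrime),
      qb.comap (Algebra.TensorProduct.includeRight : C →ₐ[A] (maximalIdeal A).Fiber C) =
          (maximalIdeal B).comap (algebraMap C B) ∧
        Algebra.IsSmoothAt (maximalIdeal A).ResidueField qb := by
  obtain ⟨n, hn⟩ := h
  let κ := (maximalIdeal A).ResidueField
  let K := AlgebraicClosure (ResidueField B)
  let fA : A →+* K := algebraMap A K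
  have hfA : ∀ a, fA a = algebraMap (ResidueField B) K (residue B (algebraMap A B a)) := fun a =>
    IsScalarTower.algebraMap_apply A (ResidueField B) K a
  have hker : maximalIdeal A ≤ RingHom.ker fA := fun a ha => by
    rw [RingHom.mem_ker]
    rw [hfA, (residue_eq_zero_iff _).2, map_zero]
    exact map_nonunit (algebraMap A B) a ha
  have hunit : (maximalIdeal A).primeCompl ≤ (IsUnit.submonoid K).comap fA := fun a ha =>
    ((notMem_maximalIdeal.1 ha).map fA : IsUnit (fA a))
  letI : Algebra κ K := (Ideal.ResidueField.lift (maximalIdeal A) fA hker hunit).toAlgebra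
  haveI : IsScalarTower A κ K := IsScalarTower.of_algebraMap_eq fun a =>
    (Ideal.ResidueField.lift_algebraMap (maximalIdeal A) fA hker hunit a).symm
  let χ : B →ₐ[A] K := { toRingHom := (algebraMap (ResidueField B) K).comp (residue B), commutes' := fun a => (hfA a).symm }
  let χ' : K ⊗[A] B →ₐ[K] K := Algebra.TensorProduct.lift (Algebra.ofId K K) χ fun _ _ => Commute.all _ _
  have hχ' : ∀ b : B, χ' (1 ⊗ₜ b) = χ b := fun b => by
    rw [Algebra.TensorProduct.lift_tmul, map_one, one_mul]
  let φ : K ⊗[A] C →ₐ[K] K ⊗[A] B := Algebra.TensorProduct.map (AlgHom.id K K) (IsScalarTower.toAlgHom A C B)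
  letI : Algebra (K ⊗[A] C) (K ⊗[A] B) := φ.toRingHom.toAlgebra
  haveI : IsScalarTower K (K ⊗[A] C) (K ⊗[A] B) := IsScalarTower.of_algebraMap_eq fun k => (φ.commutes k).symm
  haveI hloc : IsLocalization (M.map (Algebra.TensorProduct.includeRight (R := A) (A := K) (B := C))) (K ⊗[A] B) :=
    IsLocalization.tensorProduct_tensorProduct_right A K M B (RingHom.ext fun c => by
      change φ (1 ⊗ₜ c) = (1 : K) ⊗ₜ algebraMap C B c
      rw [Algebra.TensorProduct.map_tmul]
      rfl)
  haveI : Algebra.FinitePresentation A A := inferInstance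
  haveI : IsNoetherianRing (K ⊗[A] C) := Algebra.FiniteType.isNoetherianRing K (K ⊗[A] C)
  haveI : IsNoetherianRing (K ⊗[A] B) :=
    IsLocalization.isNoetherianRing (M.map (Algebra.TensorProduct.includeRight (R := A) (A := K) (B := C))) _
      inferInstance
  let m : Ideal (K ⊗[A] B) := RingHom.ker χ'
  haveI : m.IsMaximal := RingHom.ker_isMaximal_of_surjective _ fun k => ⟨algebraMap K _ k, χ'.commutes k⟩
  haveI hreg := DiagTor.isRegular_of_torDim m (DiagTor.hasTorDimLE_point hmul hn χ')
  let q'' : Ideal (K ⊗[A] C) := m.comap (algebraMap (K ⊗[A] C) (K ⊗[A] B))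
  haveI : IsRegularLocalRing (Localization.AtPrime q'') := by
    haveI := IsLocalization.isLocalization_isLocalization_atPrime_isLocalization
      (M.map (Algebra.TensorProduct.includeRight (R := A) (A := K) (B := C))) (Localization.AtPrime m) m
    exact IsRegularLocalRing.of_ringEquiv (IsLocalization.algEquiv q''.primeCompl
      (Localization.AtPrime m) (Localization.AtPrime q'')).toRingEquiv
  haveI := H24Cot.isGeometricallyReduced_of_isAlgClosed K q''.ResidueField
  have hs : Algebra.IsSmoothAt K q'' := (Groth.Agent.S9442.result K _ q'').2 inferInstance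
  obtain ⟨qb, hqb, hc, hsm⟩ := exists_descend (A := A) (C := C) (κ := κ) (K := K) q'' hs
  refine ⟨qb, hqb, hc.trans ?_, hsm⟩
  ext c
  change χ' (φ ((1 : K) ⊗ₜ[A] c)) = 0 ↔ algebraMap C B c ∈ maximalIdeal B
  rw [Algebra.TensorProduct.map_tmul, map_one, hχ']
  change algebraMap (ResidueField B) K (residue B (algebraMap C B c)) = 0 ↔ _
  rw [map_eq_zero, residue_eq_zero_iff]

/-- Inverting an element outside the prime. -/
theorem exists_away {C : Type u} [CommRing C] [Algebra A C] [Algebra C B] [IsScalarTower A C B] (q : Ideal C)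
    [q.IsPrime] [IsLocalization.AtPrime B q] (g : C) (hg : g ∉ q) :
    ∃ (_ : Algebra (Localization.Away g) B) (_ : IsScalarTower A (Localization.Away g) B)
      (q₁ : Ideal (Localization.Away g)) (_ : q₁.IsPrime),
      IsLocalization.AtPrime B q₁ ∧ q₁ = (maximalIdeal B).comap (algebraMap (Localization.Away g) B) := by
  have hu : IsUnit (algebraMap C B g) := IsLocalization.map_units B (⟨g, hg⟩ : q.primeCompl)
  letI : Algebra (Localization.Away g) B := (IsLocalization.Away.lift (S := Localization.Away g) g hu).toAlgebra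
  haveI : IsScalarTower C (Localization.Away g) B := IsScalarTower.of_algebraMap_eq fun c =>
    (IsLocalization.Away.lift_eq g hu c).symm
  haveI : IsScalarTower A (Localization.Away g) B := IsScalarTower.of_algebraMap_eq fun a => by
    rw [IsScalarTower.algebraMap_apply A C (Localization.Away g),
      ← IsScalarTower.algebraMap_apply C (Localization.Away g) B, ← IsScalarTower.algebraMap_apply A C B]
  let q₁ : Ideal (Localization.Away g) := (maximalIdeal B).comap (algebraMap (Localization.Away g) B)
  refine ⟨inferInstance, inferInstance, q₁, inferInstance, ?_, rfl⟩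
  have e : q₁.comap (algebraMap C (Localization.Away g)) = q := by
    rw [Ideal.comap_comap, ← IsScalarTower.algebraMap_eq]
    exact IsLocalization.AtPrime.under_maximalIdeal B q
  haveI := IsLocalization.isLocalization_isLocalization_atPrime_isLocalization (Submonoid.powers g)
    (Localization.AtPrime q₁) q₁
  haveI : IsLocalization q.primeCompl (Localization.AtPrime q₁) := by
    have e' : (q₁.comap (algebraMap C (Localization.Away g))).primeCompl = q.primeCompl := by
      ext x
      exact not_congr (SetLike.ext_iff.1 e x)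
    rw [← e']
    assumption
  let φ : Localization.AtPrime q₁ →+* B :=
    IsLocalization.lift (M := q₁.primeCompl) (g := algebraMap (Localization.Away g) B) fun y => notMem_maximalIdeal.1 y.2
  have hφ : φ = (IsLocalization.algEquiv q.primeCompl (Localization.AtPrime q₁) B).toRingEquiv.toRingHom := by
    refine IsLocalization.ringHom_ext q.primeCompl (RingHom.ext fun c => ?_)
    change φ (algebraMap C _ c) = IsLocalization.algEquiv q.primeCompl (Localization.AtPrime q₁) B (algebraMap C _ c)
    rw [AlgEquiv.commutes, IsScalarTower.algebraMap_apply C (Localization.Away g) (Localization.AtPrime q₁),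
      IsLocalization.lift_eq, ← IsScalarTower.algebraMap_apply]
  exact IsLocalization.isLocalization_of_algEquiv q₁.primeCompl
    (AlgEquiv.ofBijective ({ toRingHom := φ, commutes' := fun c => IsLocalization.lift_eq _ c } :
      Localization.AtPrime q₁ →ₐ[Localization.Away g] B) (by
        change Function.Bijective φ
        rw [hφ]
        exact RingEquiv.bijective _))

/-- The smooth model. -/
theorem exists_smooth_localization [IsLocalRing A] [IsNoetherianRing A] [IsLocalHom (algebraMap A B)]
    [Module.Flat A B] [Algebra.EssFiniteType A B] [Algebra (B ⊗[A] B) B]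
    (hmul : ∀ x y : B, algebraMap (B ⊗[A] B) B (x ⊗ₜ[A] y) = x * y)
    (h : DRing.HasFiniteTorDim (B ⊗[A] B) B) :
    ∃ (C : Type u) (_ : CommRing C) (_ : Algebra A C) (_ : Algebra C B) (_ : IsScalarTower A C B)
      (q : Ideal C) (_ : q.IsPrime), Algebra.Smooth A C ∧ IsLocalization.AtPrime B q := by
  let C₀ := Algebra.EssFiniteType.subalgebra A B
  let M := Algebra.EssFiniteType.submonoid A B
  let q : Ideal C₀ := (maximalIdeal B).comap (algebraMap C₀ B)
  haveI : IsLocalization.AtPrime B q := by
    have e : q.primeCompl = M := by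
      ext x
      exact ⟨fun hx => notMem_maximalIdeal.1 hx, fun hx => notMem_maximalIdeal.2 hx⟩
    change IsLocalization q.primeCompl B
    rw [e]
    exact Algebra.EssFiniteType.isLocalization A B
  haveI : Algebra.FinitePresentation A C₀ := Algebra.FinitePresentation.of_finiteType.mp inferInstance
  haveI : q.LiesOver (maximalIdeal A) := ⟨by
    rw [Ideal.under, Ideal.comap_comap, ← IsScalarTower.algebraMap_eq A C₀ B, maximalIdeal_comap]⟩
  obtain ⟨qb, hqb, hcomap, hsm⟩ := isSmoothAt_fiber (C := C₀) hmul h M
  haveI := hsm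
  haveI : Algebra.FinitePresentation (maximalIdeal A).ResidueField ((maximalIdeal A).Fiber C₀) :=
    Algebra.FinitePresentation.of_finiteType.mp inferInstance
  obtain ⟨gb, hgb, hgsm⟩ := Algebra.IsSmoothAt.exists_notMem_smooth (maximalIdeal A).ResidueField qb
  -- lift it
  obtain ⟨g, hg⟩ : ∃ g : C₀, (1 : (maximalIdeal A).ResidueField) ⊗ₜ[A] g = gb := by
    clear hgb hgsm
    induction gb using TensorProduct.induction_on with
    | zero => exact ⟨0, TensorProduct.tmul_zero _ _⟩
    | add a b ha hb =>
      obtain ⟨a', rfl⟩ := ha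
      obtain ⟨b', rfl⟩ := hb
      exact ⟨a' + b', TensorProduct.tmul_add _ _ _⟩
    | tmul k c =>
      obtain ⟨a, rfl⟩ := Ideal.algebraMap_residueField_surjective (maximalIdeal A) k
      exact ⟨a • c, by rw [← TensorProduct.smul_tmul, Algebra.smul_def, mul_one]⟩
  subst hg
  have hgq : g ∉ q := fun hh => hgb ((SetLike.ext_iff.1 hcomap g).2 hh)
  let C₁ := Localization.Away g
  obtain ⟨alg₁, tow₁, q₁, hq₁, hloc₁, hq₁def⟩ := exists_away (A := A) (B := B) q g hgq
  letI := alg₁
  haveI := hloc₁
  haveI := tow₁
  haveI : q₁.LiesOver (maximalIdeal A) := ⟨by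
    rw [hq₁def, Ideal.under, Ideal.comap_comap, ← IsScalarTower.algebraMap_eq A C₁ B, maximalIdeal_comap]⟩
  haveI : Algebra.FinitePresentation A C₁ := by
    haveI : Algebra.FinitePresentation C₀ C₁ := IsLocalization.Away.finitePresentation g
    haveI : Algebra.FiniteType C₀ C₁ := inferInstance
    haveI : Algebra.FiniteType A C₁ := Algebra.FiniteType.trans (S := C₀) inferInstance inferInstance
    exact Algebra.FinitePresentation.of_finiteType.mp inferInstance
  haveI : Algebra.FormallySmooth (maximalIdeal A).ResidueField ((maximalIdeal A).Fiber C₁) := by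
    let F := (maximalIdeal A).Fiber C₀
    let ψ : F →ₐ[(maximalIdeal A).ResidueField] (maximalIdeal A).Fiber C₁ :=
      Algebra.TensorProduct.map (AlgHom.id _ _) (IsScalarTower.toAlgHom A C₀ C₁)
    letI : Algebra F ((maximalIdeal A).Fiber C₁) := ψ.toRingHom.toAlgebra
    haveI : IsScalarTower (maximalIdeal A).ResidueField F ((maximalIdeal A).Fiber C₁) :=
      IsScalarTower.of_algebraMap_eq fun k => (ψ.commutes k).symm
    haveI hl : IsLocalization ((Submonoid.powers g).map (Algebra.TensorProduct.includeRight
        (R := A) (A := (maximalIdeal A).ResidueField) (B := C₀))) ((maximalIdeal A).Fiber C₁) :=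
      IsLocalization.tensorProduct_tensorProduct_right A _ (Submonoid.powers g) C₁ (RingHom.ext fun c => by
        change ψ (1 ⊗ₜ c) = (1 : (maximalIdeal A).ResidueField) ⊗ₜ algebraMap C₀ C₁ c
        rw [Algebra.TensorProduct.map_tmul]
        rfl)
    have e : (Submonoid.powers g).map (Algebra.TensorProduct.includeRight
        (R := A) (A := (maximalIdeal A).ResidueField) (B := C₀)) =
        Submonoid.powers ((1 : (maximalIdeal A).ResidueField) ⊗ₜ[A] g) := Submonoid.map_powers _ g
    rw [e] at hl
    haveI := hgsm.1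
    exact Algebra.FormallySmooth.of_equiv (AlgEquiv.restrictScalars (maximalIdeal A).ResidueField
      (IsLocalization.algEquiv (Submonoid.powers ((1 : (maximalIdeal A).ResidueField) ⊗ₜ[A] g))
        (Localization.Away ((1 : (maximalIdeal A).ResidueField) ⊗ₜ[A] g)) ((maximalIdeal A).Fiber C₁)))
  have hflat : (Localization.localRingHom (maximalIdeal A) q₁ (algebraMap A C₁) (q₁.over_def _)).Flat := by
    let Ap := Localization.AtPrime (maximalIdeal A)
    let Sq := Localization.AtPrime q₁
    letI : Algebra Ap Sq := (Localization.localRingHom (maximalIdeal A) q₁ (algebraMap A C₁) (q₁.over_def _)).toAlgebra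
    haveI : IsScalarTower A Ap Sq := IsScalarTower.of_algebraMap_eq fun a => by
      rw [IsScalarTower.algebraMap_apply A C₁ Sq]
      exact (Localization.localRingHom_to_map _ _ _ _ a).symm
    haveI : Module.Flat A Sq := Module.Flat.of_linearEquiv
      ((IsLocalization.algEquiv q₁.primeCompl Sq B).toLinearEquiv.restrictScalars A)
    exact RingHom.flat_algebraMap_iff.2
      ((Module.flat_iff_of_isLocalization Ap (maximalIdeal A).primeCompl Sq).2 inferInstance)
  have hsm₁ : Algebra.IsSmoothAt A q₁ :=
    H17.SmoothPoint.isSmoothAt_of_flat_localization_of_fiber (maximalIdeal A) q₁ hflat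
  haveI := hsm₁
  obtain ⟨f, hf, hfs⟩ := Algebra.IsSmoothAt.exists_notMem_smooth A q₁
  obtain ⟨alg₂, tow₂, q₂, hq₂, hloc₂, -⟩ := exists_away (A := A) (B := B) q₁ f hf
  exact ⟨Localization.Away f, inferInstance, inferInstance, alg₂, tow₂, q₂, hq₂, hfs, hloc₂⟩

end Groth.Agent.H11LCI
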