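import Groth.Agent.H8Props.KoszImm.Syntomic
import Groth.Agent.H8Props.NLCx.Basic
import Groth.Agent.S2189
import Groth.Agent.S5165

/-!
# Flat conormal modules give local complete intersections
-/

set_option autoImplicit false
set_option linter.style.haveILetI false

universe u

open scoped TensorProduct
open CategoryTheory Algebra

namespace Groth.Agent.H11LCI.FlatCotangent

/-- Over a field, a flat conormal module gives complete intersection local rings. -/
theorem isCIOver_of_flat_cotangent {κ C : Type u} [Field κ] [CommRing C] [Algebra κ C] {ι : Type u} [Finite ι]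
    (G : Generators κ C ι) [Module.Flat C G.toExtension.Cotangent] (Q : Ideal C) [Q.IsPrime] :
    Synt.IsCIOver κ (Localization.AtPrime Q) := by
  classical
  let B := MvPolynomial ι κ
  let ψ : B →ₐ[κ] C := MvPolynomial.aeval G.val
  have hψ : Function.Surjective ψ := fun c => ⟨G.σ c, G.aeval_val_σ c⟩
  haveI : Algebra.FiniteType κ C := Algebra.FiniteType.of_surjective ψ hψ
  haveI : IsNoetherianRing C := Algebra.FiniteType.isNoetherianRing κ C
  have hI : G.toExtension.ker = RingHom.ker ψ.toRingHom := G.ker_eq_ker_aeval_val
  haveI : Module.Finite C G.toExtension.Cotangent :=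
    Extension.Cotangent.finite ((hI ▸ IsNoetherian.noetherian (RingHom.ker ψ.toRingHom)))
  haveI : Module.Projective C G.toExtension.Cotangent := haveI := Module.finitePresentation_of_finite C G.toExtension.Cotangent; Module.Flat.projective_of_finitePresentation
  let I : Ideal B := G.toExtension.ker
  let eS : (B ⧸ I) ≃+* C :=
    RingHom.quotientKerEquivOfSurjective G.toExtension.algebraMap_surjective
  haveI := RingHomInvPair.of_ringEquiv eS
  haveI := RingHomInvPair.symm (↑eS : (B ⧸ I) →+* C) (eS.symm : C →+* _)
  let e : I.Cotangent ≃ₛₗ[(eS : (B ⧸ I) →+* C)] G.toExtension.Cotangent :=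
    { toFun := Extension.Cotangent.of
      invFun := Extension.Cotangent.val
      left_inv := fun _ => rfl
      right_inv := fun _ => rfl
      map_add' := fun _ _ => rfl
      map_smul' := fun c x => by
        obtain ⟨p, rfl⟩ := Ideal.Quotient.mk_surjective (I := I) c
        refine Extension.Cotangent.ext ?_
        rw [show (eS : (B ⧸ I) →+* C) (Ideal.Quotient.mk _ p) = algebraMap G.toExtension.Ring C p from
          RingHom.quotientKerEquivOfSurjective_apply_mk G.toExtension.algebraMap_surjective p,
          algebraMap_smul, Extension.Cotangent.val_smul', Extension.Cotangent.val_of,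
          Extension.Cotangent.val_of]
        exact algebraMap_smul (B ⧸ I) p x }
  haveI : Module.Projective (B ⧸ I) I.Cotangent := Module.Projective.of_equiv e.symm
  let P : Ideal B := Q.comap ψ.toRingHom
  have hIP : I ≤ P := fun a ha => by
    show ψ a ∈ Q
    rw [show ψ a = 0 from (hI ▸ ha : a ∈ RingHom.ker ψ.toRingHom)]
    exact zero_mem _
  haveI : IsRegularRing B := inferInstance
  obtain ⟨d, hd⟩ := Groth.Agent.S5165.result B I
  obtain ⟨r, x, hreg, hx⟩ := Groth.Agent.S2189.exists_regular_generators (R := B) I d hd P hIP
  let L := Localization.AtPrime P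
  let φ : L →ₐ[κ] Localization.AtPrime Q := Localization.localAlgHom P Q ψ rfl
  have hT : Submonoid.map ψ.toRingHom P.primeCompl = Q.primeCompl := by
    ext z
    constructor
    · rintro ⟨a, ha, rfl⟩; exact ha
    · intro hz
      obtain ⟨a, rfl⟩ := hψ z
      exact ⟨a, hz, rfl⟩
  haveI : IsLocalization (Submonoid.map ψ.toRingHom P.primeCompl) (Localization.AtPrime Q) := by
    rw [hT]
    infer_instance
  have hφ : Function.Surjective φ := IsLocalization.map_surjective_of_surjective _ _ _ hψ
  haveI : Algebra.EssFiniteType κ L :=
    haveI : Algebra.EssFiniteType B L := .of_isLocalization _ P.primeCompl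
    Algebra.EssFiniteType.comp κ B L
  haveI : IsRegularLocalRing L := inferInstance
  have hker : RingHom.ker φ.toRingHom = Ideal.ofList (List.ofFn x) := by
    refine (IsLocalization.ker_map (S := L) (Localization.AtPrime Q) ψ.toRingHom hT).trans ?_
    rw [← hI, ← hx]
    exact congrArg Ideal.span (Set.ext fun z => List.mem_ofFn.symm)
  exact (H9CI.isCIOver_iff φ hφ).2 (H9CI.isCIKer_of_isRegular (R := L) _ hφ _ hreg hker)

/-- A flat finitely presented algebra with flat conormal module is a local complete intersection. -/
theorem isLCI_of_flat_cotangent {A B : Type u} [CommRing A] [CommRing B] [Algebra A B] [Module.Flat A B]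
    [Algebra.FinitePresentation A B] {ι : Type u} [Finite ι] (G : Generators A B ι)
    [Module.Flat B G.toExtension.Cotangent] : LCI.IsLCI A B := by
  refine ((H8Props.KoszImm.isSyntomic_iff A B).1 (H9CI.isSyntomic_of_forall_prime fun q _ => ?_)).2
  obtain ⟨Q, hQp, hQ⟩ := H9CI.exists_fibre_prime (R := A) q
  let p := q.comap (algebraMap A B)
  haveI : q.LiesOver p := ⟨rfl⟩
  haveI : Module.Flat B (Localization.AtPrime q) := IsLocalization.flat _ q.primeCompl
  haveI : Algebra.FinitePresentation B (Localization.Away (1 : B)) :=
    IsLocalization.Away.finitePresentation (1 : B)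
  let κ := p.ResidueField
  letI : Algebra B (κ ⊗[A] B) := Algebra.TensorProduct.rightAlgebra
  haveI : Algebra.IsPushout A κ B (κ ⊗[A] B) := inferInstance
  let G' := G.baseChange κ
  let f : G.Hom G' :=
    { val := MvPolynomial.X
      aeval_val := fun i => by rw [MvPolynomial.aeval_X]; rfl }
  have hb := H8Props.NLCx.liftBaseChange_cotangentMap_bijective_of_flat_target (G := G) (G' := G')
    (fun i => rfl) f (fun i => rfl)
  haveI : Module.Flat (κ ⊗[A] B) G'.toExtension.Cotangent :=
    Module.Flat.of_linearEquiv (LinearEquiv.ofBijective _ hb).symm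
  exact (Groth.Agent.S9169.result A B p q Q hQ).2.2
    ⟨1, fun h1 => ‹q.IsPrime›.ne_top ((Ideal.eq_top_iff_one _).2 h1),
      Algebra.FinitePresentation.trans A B _, Module.Flat.trans A B _,
      isCIOver_of_flat_cotangent G' Q⟩

end Groth.Agent.H11LCI.FlatCotangent
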