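import Groth.Agent.S18935
import Groth.Agent.H17.KoszCancel.Scheme
import Groth.Agent.H17.KoszulBC
import Groth.Agent.H29Slice.KoszulReg
import Groth.Agent.H8Props.PseudoCoh.Koszul
import Mathlib.RingTheory.Regular.Flat
import Mathlib.RingTheory.Smooth.Basic
import Mathlib.RingTheory.Smooth.Flat
import Mathlib.RingTheory.Smooth.StandardSmooth
import Mathlib.Algebra.MvPolynomial.Eval
import Mathlib.RingTheory.Polynomial.Basic
import Mathlib.Data.Finsupp.Lex

/-!
# A Koszul-regular sequence becomes a regular sequence after a smooth cover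

The generic combination `∑ T_i f_i` of a Koszul-regular sequence is a nonzerodivisor in `A[T]`
(McCoy), and inductively a Koszul-regular ideal is generated by a regular sequence after a smooth
base change hitting a given prime.
-/

set_option autoImplicit false
set_option linter.style.haveILetI false

universe u

open CategoryTheory RingTheory.Sequence MvPolynomial

namespace Groth.Agent.H11LCI.GenericKoszul

variable {A : Type u} [CommRing A]

/-- A scalar killing the sequence gives a cycle at the bottom of the Koszul complex. -/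
theorem exists_bottom (l : List A) : ∃ ι : A →ₗ[A] (Koszul.koszul A l).X (-(l.length : ℤ)),
    Function.Injective ι ∧ ∀ a : A, (∀ f ∈ l, f * a = 0) →
      (Koszul.koszul A l).d (-(l.length : ℤ)) (-(l.length : ℤ) + 1) (ι a) = 0 := by
  induction l with
  | nil =>
    let e := (HomologicalComplex.singleObjXSelf (ComplexShape.up ℤ) 0 (ModuleCat.of A A)).toLinearEquiv
    refine ⟨e.symm.toLinearMap, e.symm.injective, fun a _ => ?_⟩
    haveI := ModuleCat.subsingleton_of_isZero
      (H8Props.PseudoCoh.koszul_isZero ([] : List A) (-((([] : List A).length : ℤ)) + 1) (by simp))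
    exact Subsingleton.elim _ _
  | cons f l ih =>
    obtain ⟨ι, hι, hd⟩ := ih
    let n : ℤ := -(l.length : ℤ)
    have hlen : -(((f :: l).length : ℤ)) = n - 1 := by simp [n]; omega
    rw [hlen]
    let e := H8Props.PseudoCoh.coneXEquiv (f • 𝟙 (Koszul.koszul A l)) (n - 1) n (by omega)
    let ι' : A →ₗ[A] (Koszul.koszul A (f :: l)).X (n - 1) :=
      e.symm.toLinearMap ∘ₗ (LinearMap.inl A ((Koszul.koszul A l).X n) ((Koszul.koszul A l).X (n - 1)) ∘ₗ ι)
    refine ⟨ι', e.symm.injective.comp (fun a b h => hι (congrArg Prod.fst h)), fun a ha => ?_⟩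
    have hh : ∀ (j : ℤ) (hj : j = n), (Koszul.koszul A (f :: l)).d (n - 1) j (ι' a) = 0 := by
      rintro j rfl
      refine (H8Props.PseudoCoh.coneXEquiv (f • 𝟙 (Koszul.koszul A l)) n (n + 1) rfl).injective ?_
      refine Eq.trans ?_ (LinearEquiv.map_zero _).symm
      refine (H29Slice.koszul_cons_d f l (n - 1) n (n + 1) (by omega) rfl (ι' a)).trans ?_
      rw [show H8Props.PseudoCoh.coneXEquiv (f • 𝟙 (Koszul.koszul A l)) (n - 1) n (by omega) (ι' a) = (ι a, 0) from
        e.apply_symm_apply _]
      refine Prod.ext ?_ ?_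
      · show -((Koszul.koszul A l).d n (n + 1) (ι a)) = 0
        rw [hd a (fun g hg => ha g (List.mem_cons_of_mem _ hg)), neg_zero]
      · show f • ι a + (Koszul.koszul A l).d (n - 1) n 0 = 0
        rw [map_zero, add_zero, ← map_smul, smul_eq_mul, ha f List.mem_cons_self, map_zero]
    exact hh _ (by omega)

/-- A nonempty Koszul-regular sequence has zero annihilator. -/
theorem eq_zero_of_forall_mul_eq_zero {l : List A} (h : LCI.IsKoszulRegularSeq A l) (hne : l ≠ []) {a : A}
    (ha : ∀ f ∈ l, f * a = 0) : a = 0 := by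
  obtain ⟨ι, hι, hd⟩ := exists_bottom l
  have hpos : 0 < l.length := List.length_pos_iff.2 hne
  obtain ⟨w, hw⟩ := H29Slice.exists_preimage_of_isZero_homology _ (-(l.length : ℤ) - 1) _ _ (by omega) rfl
    (h (-(l.length : ℤ)) (by omega)) (ι a) (hd a ha)
  haveI := ModuleCat.subsingleton_of_isZero
    (H8Props.PseudoCoh.koszul_isZero l (-(l.length : ℤ) - 1) (by omega))
  apply hι
  rw [← hw, Subsingleton.elim w 0, map_zero, map_zero]

/-- The generic combination of a finite family. -/
noncomputable def comb {n : ℕ} (l : Fin n → A) : MvPolynomial (Fin n) A := ∑ i, X i * C (l i)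

/-- McCoy's theorem for the generic combination. -/
theorem comb_mul_eq_zero {n : ℕ} (l : Fin n → A) (hann : ∀ a : A, (∀ i, l i * a = 0) → a = 0) :
    ∀ F : MvPolynomial (Fin n) A, comb l * F = 0 → F = 0 := by
  classical
  intro F
  induction hN : F.support.card using Nat.strong_induction_on generalizing F with
  | _ N ih =>
  intro hF
  by_contra hne
  obtain ⟨m, hm, hmax⟩ := F.support.exists_max_image (fun d => toLex d)
    (Finset.nonempty_iff_ne_empty.2 (by simpa using hne))
  have hcoef : MvPolynomial.coeff m F ≠ 0 := MvPolynomial.mem_support_iff.1 hm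
  obtain ⟨i₀, hi₀⟩ : ∃ i, C (l i) * F ≠ 0 := by
    by_contra hall
    push Not at hall
    exact hcoef (hann _ fun i => by rw [← MvPolynomial.coeff_C_mul, hall i, MvPolynomial.coeff_zero])
  let S := (Finset.univ : Finset (Fin n)).filter fun i => C (l i) * F ≠ 0
  have hS : S.Nonempty := ⟨i₀, Finset.mem_filter.2 ⟨Finset.mem_univ _, hi₀⟩⟩
  let i := S.min' hS
  have hi : C (l i) * F ≠ 0 := (Finset.mem_filter.1 (S.min'_mem hS)).2
  have hlt : ∀ j, j < i → C (l j) * F = 0 := fun j hj => by
    by_contra hj'
    exact absurd (S.min'_le j (Finset.mem_filter.2 ⟨Finset.mem_univ _, hj'⟩)) (not_le.2 hj)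
  -- the coefficient at `m + e_i`
  have hli : l i * MvPolynomial.coeff m F = 0 := by
    have h0 := congrArg (MvPolynomial.coeff (Finsupp.single i 1 + m)) hF
    rw [MvPolynomial.coeff_zero, comb, Finset.sum_mul, MvPolynomial.coeff_sum,
      Finset.sum_eq_single i, mul_assoc, MvPolynomial.coeff_X_mul, MvPolynomial.coeff_C_mul] at h0
    · exact h0
    · intro j _ hji
      rw [mul_assoc, MvPolynomial.coeff_X_mul']
      split_ifs with hj
      · rcases lt_or_gt_of_ne hji with hlt' | hgt'
        · rw [hlt j hlt', MvPolynomial.coeff_zero]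
        · rw [MvPolynomial.coeff_C_mul]
          suffices h : MvPolynomial.coeff (Finsupp.single i 1 + m - Finsupp.single j 1) F = 0 by
            rw [h, mul_zero]
          by_contra hmem
          have hle := hmax _ (MvPolynomial.mem_support_iff.2 hmem)
          refine not_lt.2 hle ?_
          show toLex m < toLex (Finsupp.single i 1 + m - Finsupp.single j 1)
          refine ⟨i, fun k hk => ?_, ?_⟩
          · show m k = (Finsupp.single i 1 + m - Finsupp.single j 1 : Fin n →₀ ℕ) k
            simp [hk.ne, (hk.trans hgt').ne]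
          · show m i < (Finsupp.single i 1 + m - Finsupp.single j 1 : Fin n →₀ ℕ) i
            simp [hji.symm]
      · rfl
    · intro h; exact absurd (Finset.mem_univ _) h
  refine hi (ih _ ?_ _ rfl ?_)
  · rw [← hN]
    refine Finset.card_lt_card ⟨fun d hd => ?_, fun h => ?_⟩
    · rw [MvPolynomial.mem_support_iff, MvPolynomial.coeff_C_mul] at hd
      exact MvPolynomial.mem_support_iff.2 fun h => hd (by rw [h, mul_zero])
    · have := h hm
      rw [MvPolynomial.mem_support_iff, MvPolynomial.coeff_C_mul] at this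
      exact this hli
  · rw [mul_left_comm, hF, mul_zero]

/-- **A Koszul-regular sequence becomes regular after a smooth base change.** -/
theorem exists_smooth_weaklyRegular : ∀ (r : ℕ) (A : Type u) [CommRing A] (m l : List A),
    l.length = r → IsWeaklyRegular A m → LCI.IsKoszulRegularSeq A (l ++ m) →
    ∀ p : PrimeSpectrum A, Ideal.ofList (l ++ m) ≤ p.asIdeal →
    ∃ (B : Type u) (_ : CommRing B) (_ : Algebra A B) (q : PrimeSpectrum B) (rs : List B),
      Algebra.Smooth A B ∧ q.asIdeal.comap (algebraMap A B) = p.asIdeal ∧ IsWeaklyRegular B rs ∧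
        Ideal.ofList rs = (Ideal.ofList (l ++ m)).map (algebraMap A B) := by
  intro r
  induction r with
  | zero =>
    intro A _ m l hl hm _ p _
    obtain rfl : l = [] := List.length_eq_zero_iff.1 hl
    exact ⟨A, inferInstance, inferInstance, p, m, inferInstance, Ideal.comap_id _, hm,
      by rw [List.nil_append, Algebra.algebraMap_self, Ideal.map_id]⟩
  | succ r ih =>
    intro A _ m l hl hm hK p hp
    classical
    obtain ⟨l0, l', rfl⟩ : ∃ a l', l = a :: l' := by
      cases l with
      | nil => simp at hl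
      | cons a l' => exact ⟨a, l', rfl⟩
    let v : Fin (l'.length + 1) → A := fun i => (l0 :: l').get i
    let g0 : MvPolynomial (Fin (l'.length + 1)) A := comb v
    let B₁ := Localization.Away (X 0 : MvPolynomial (Fin (l'.length + 1)) A)
    haveI : Algebra.Smooth (MvPolynomial (Fin (l'.length + 1)) A) B₁ :=
      Algebra.Smooth.of_isLocalization_Away (X 0)
    haveI : Algebra.Smooth A (MvPolynomial (Fin (l'.length + 1)) A) :=
      ⟨inferInstance, inferInstance⟩
    haveI : Algebra.Smooth A B₁ := Algebra.Smooth.comp A (MvPolynomial (Fin (l'.length + 1)) A) B₁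
    haveI : Module.Flat A B₁ := inferInstance
    haveI : Module.Flat (MvPolynomial (Fin (l'.length + 1)) A) B₁ :=
      IsLocalization.flat B₁ (Submonoid.powers (X 0))
    let φ := algebraMap A B₁
    let g : B₁ := algebraMap _ B₁ g0
    -- annihilator of `l` modulo `m`
    have hmK := H29Slice.isKoszulRegular_of_isWeaklyRegular hm
    have hmod : LCI.IsKoszulRegularSeq (A ⧸ Ideal.ofList m) ((l0 :: l').map (Ideal.Quotient.mk (Ideal.ofList m))) :=
      H17.KoszCancel.isKoszulRegularSeq_of_append _ Ideal.Quotient.mk_surjective hmK Ideal.mk_ker hK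
    have hw0 : IsWeaklyRegular (MvPolynomial (Fin (l'.length + 1)) A)
        (m.map (algebraMap A (MvPolynomial (Fin (l'.length + 1)) A)) ++ [g0]) := by
      rw [isWeaklyRegular_append_iff]
      refine ⟨IsWeaklyRegular.of_flat hm, ?_⟩
      rw [isWeaklyRegular_singleton_iff]
      intro a b hab
      obtain ⟨F, rfl⟩ := Submodule.Quotient.mk_surjective _ a
      obtain ⟨G, rfl⟩ := Submodule.Quotient.mk_surjective _ b
      simp only [← Submodule.Quotient.mk_smul, Submodule.Quotient.eq, ← smul_sub] at hab ⊢
      rw [smul_eq_mul, Ideal.mul_top, ← Ideal.map_ofList, MvPolynomial.algebraMap_eq] at hab ⊢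
      have hker := MvPolynomial.ker_map (σ := Fin (l'.length + 1)) (Ideal.Quotient.mk (Ideal.ofList m))
      rw [Ideal.mk_ker] at hker
      rw [← hker, RingHom.mem_ker] at hab ⊢
      rw [smul_eq_mul, map_mul] at hab
      refine comb_mul_eq_zero (fun i => Ideal.Quotient.mk (Ideal.ofList m) (v i)) (fun c hc => ?_) _ ?_
      · refine eq_zero_of_forall_mul_eq_zero hmod (by simp) fun f hf => ?_
        obtain ⟨f', hf', rfl⟩ := List.mem_map.1 hf
        obtain ⟨i, hi⟩ := List.get_of_mem hf'
        rw [← hi]
        exact hc i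
      · simpa [g0, comb] using hab
    have hw : IsWeaklyRegular B₁ (m.map φ ++ [g]) := by
      have := IsWeaklyRegular.of_flat (S := B₁) hw0
      rwa [List.map_append, List.map_map, List.map_singleton, ← RingHom.coe_comp,
        ← IsScalarTower.algebraMap_eq] at this
    -- the point
    let ev : MvPolynomial (Fin (l'.length + 1)) A →+* p.asIdeal.ResidueField :=
      MvPolynomial.eval₂Hom (algebraMap A p.asIdeal.ResidueField) (fun i => if i = 0 then 1 else 0)
    have hev : IsUnit (ev (X 0)) := by simp [ev]
    let ev₁ : B₁ →+* p.asIdeal.ResidueField := IsLocalization.Away.lift (X 0) hev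
    let q₁ : PrimeSpectrum B₁ := ⟨RingHom.ker ev₁, RingHom.ker_isPrime _⟩
    have hq₁ : q₁.asIdeal.comap φ = p.asIdeal := by
      rw [RingHom.comap_ker, show ev₁.comp φ = algebraMap A p.asIdeal.ResidueField from ?_,
        Ideal.ker_algebraMap_residueField]
      refine RingHom.ext fun a => ?_
      show ev₁ (algebraMap A B₁ a) = _
      rw [IsScalarTower.algebraMap_apply A (MvPolynomial (Fin (l'.length + 1)) A) B₁,
        IsLocalization.Away.lift_eq]
      simp [ev, MvPolynomial.algebraMap_eq]
    -- the ideals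
    have hu : IsUnit (algebraMap (MvPolynomial (Fin (l'.length + 1)) A) B₁ (X 0)) :=
      IsLocalization.Away.algebraMap_isUnit (X 0)
    have hgsum : g = algebraMap (MvPolynomial (Fin (l'.length + 1)) A) B₁ (X 0) * φ l0 +
        ∑ i : Fin l'.length, algebraMap (MvPolynomial (Fin (l'.length + 1)) A) B₁ (X i.succ) * φ (l'.get i) := by
      simp only [g, g0, comb, Fin.sum_univ_succ, map_add, map_sum, map_mul, φ,
        IsScalarTower.algebraMap_apply A (MvPolynomial (Fin (l'.length + 1)) A) B₁, MvPolynomial.algebraMap_eq]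
      rfl
    have hl'mem : ∀ i, φ (l'.get i) ∈ Ideal.ofList (l'.map φ) := fun i =>
      Ideal.subset_span (List.mem_map.2 ⟨_, List.get_mem _ _, rfl⟩)
    have hideal : Ideal.ofList (l'.map φ ++ (m.map φ ++ [g])) = (Ideal.ofList (l0 :: l' ++ m)).map φ := by
      rw [Ideal.map_ofList, List.map_append, List.map_cons, List.cons_append]
      simp only [Ideal.ofList_append, Ideal.ofList_cons, Ideal.ofList_nil, sup_bot_eq]
      have hsum : ∑ i : Fin l'.length, algebraMap (MvPolynomial (Fin (l'.length + 1)) A) B₁ (X i.succ) * φ (l'.get i) ∈ Ideal.ofList (l'.map φ) :=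
        Ideal.sum_mem _ fun i _ => Ideal.mul_mem_left _ _ (hl'mem i)
      refine le_antisymm (sup_le (le_sup_of_le_right le_sup_left) (sup_le (le_sup_of_le_right le_sup_right) ?_))
        (sup_le ?_ (sup_le le_sup_left (le_sup_of_le_right le_sup_left)))
      · rw [Ideal.span_singleton_le_iff_mem, hgsum]
        exact add_mem (Ideal.mem_sup_left (Ideal.mul_mem_left _ _ (Ideal.mem_span_singleton_self _)))
          (Ideal.mem_sup_right (Ideal.mem_sup_left hsum))
      · rw [Ideal.span_singleton_le_iff_mem, ← Ideal.unit_mul_mem_iff_mem _ hu]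
        rw [show algebraMap (MvPolynomial (Fin (l'.length + 1)) A) B₁ (X 0) * φ l0 =
          g - ∑ i : Fin l'.length, algebraMap (MvPolynomial (Fin (l'.length + 1)) A) B₁ (X i.succ) * φ (l'.get i) by rw [hgsum]; ring]
        exact sub_mem (Ideal.mem_sup_right (Ideal.mem_sup_right (Ideal.mem_span_singleton_self _)))
          (Ideal.mem_sup_left hsum)
    have hle : Ideal.ofList (l'.map φ ++ (m.map φ ++ [g])) ≤ q₁.asIdeal := by
      rw [hideal, Ideal.map_le_iff_le_comap, hq₁]
      exact hp
    have hK₁ : LCI.IsKoszulRegularSeq B₁ (l'.map φ ++ (m.map φ ++ [g])) := by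
      have hK0 : LCI.IsKoszulRegularSeq B₁ ((l0 :: l' ++ m).map φ) := H17.KoszulBC.isKoszulRegularSeq_map B₁ hK
      have hI : Ideal.ofList (l'.map φ ++ (m.map φ ++ [g])) ≠ ⊤ := fun h =>
        q₁.isPrime.ne_top (top_le_iff.1 (h ▸ hle))
      have hg0 : Ideal.ofList ((l0 :: l' ++ m).map φ) = Ideal.ofList (l'.map φ ++ (m.map φ ++ [g])) := by
        rw [hideal, Ideal.map_ofList]
      refine (S18935.result hI _ hK0 hg0 _ rfl).2 fun h hh => ?_
      have := (S18935.result hI _ hK0 hg0 _ hg0).1 hK0 h hh
      simp only [List.length_map, List.length_append, List.length_cons, List.length_nil] at this ⊢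
      omega
    obtain ⟨B, _, _, q, rs, hsm, hq, hrs, hrsI⟩ :=
      ih B₁ (m.map φ ++ [g]) (l'.map φ) (by simp at hl ⊢; omega) hw hK₁ q₁ hle
    letI : Algebra A B := ((algebraMap B₁ B).comp φ).toAlgebra
    haveI : IsScalarTower A B₁ B := .of_algebraMap_eq fun _ => rfl
    refine ⟨B, inferInstance, inferInstance, q, rs, Algebra.Smooth.comp A B₁ B, ?_, hrs, ?_⟩
    · rw [RingHom.algebraMap_toAlgebra, ← Ideal.comap_comap, hq, hq₁]
    · rw [hrsI, hideal, Ideal.map_map]
      rfl

end Groth.Agent.H11LCI.GenericKoszul
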