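import Groth.Agent.H11LCI.NLIso
import Groth.Agent.H4DR.Ext.Point
import Mathlib

/-!
# The Jacobian determinant kills `Ext¹` of the naive cotangent complex
-/

set_option autoImplicit false
set_option linter.style.haveILetI false
set_option backward.isDefEq.respectTransparency false

universe u

open CategoryTheory CategoryTheory.Limits HomologicalComplex

attribute [local instance] HasDerivedCategory.standard

namespace Groth.Agent.H11LCI.JacobianKill

variable {B : Type u} [CommRing B]

section Abstract

variable {X₀ X₁ : ModuleCat.{u} B} (d : X₀ ⟶ X₁) (hr : (ComplexShape.up ℤ).Rel (-1) 0)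
  (g : B) (s : X₁ ⟶ X₀)

theorem smul_hasComps : H8Props.NLCx.HasComps hr (g • 𝟙 (double d hr)) (g • 𝟙 X₀) (g • 𝟙 X₁) := by
  constructor <;> simp [HomologicalComplex.smul_f_apply]

/-- A contraction up to `g` kills the complex. -/
theorem smul_id_eq_zero (hsd : d ≫ s = g • 𝟙 X₀) (hds : s ≫ d = g • 𝟙 X₁) :
    g • 𝟙 (DRing.toD (double d hr)) = 0 := by
  let ho := H8Props.NLCx.doubleHomotopy (smul_hasComps d hr g)
    (show H8Props.NLCx.HasComps hr (0 : double d hr ⟶ double d hr) 0 0 by constructor <;> simp)
    s (by rw [hsd, add_zero]) (by rw [hds, add_zero])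
  have h1 : (HomotopyCategory.quotient (ModuleCat.{u} B) (ComplexShape.up ℤ)).map (g • 𝟙 (double d hr)) = 0 := by
    rw [HomotopyCategory.eq_of_homotopy _ _ ho, Functor.map_zero]
  have h2 : DerivedCategory.Q.map (g • 𝟙 (double d hr)) = 0 := by
    rw [← NatIso.naturality_1 (DerivedCategory.quotientCompQhIso (ModuleCat.{u} B)) (g • 𝟙 (double d hr)),
      Functor.comp_map, h1, Functor.map_zero, zero_comp, comp_zero]
  rwa [Functor.map_smul, CategoryTheory.Functor.map_id] at h2

/-- `g` kills the maps to a module placed in degree `-1`. -/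
theorem smul_eq_zero [Projective X₁] (hsd : d ≫ s = g • 𝟙 X₀) (N : Type u) [AddCommGroup N] [Module B N]
    (φ : DRing.toD (double d hr) ⟶ (Dual.inD B N)⟦(1 : ℤ)⟧) : g • φ = 0 := by
  let h : X₁ ⟶ X₁ := g • 𝟙 X₁ - s ≫ d
  have hh : d ≫ h = 0 := by
    simp only [h, Preadditive.comp_sub, Linear.comp_smul, Category.comp_id, reassoc_of% hsd,
      Linear.smul_comp, Category.id_comp, sub_self]
  let S := (HomologicalComplex.single (ModuleCat.{u} B) (ComplexShape.up ℤ) 0).obj X₁
  let p : double d hr ⟶ S :=
    mkHomFromDouble hr (by decide) 0 (h ≫ (singleObjXSelf (ComplexShape.up ℤ) 0 X₁).inv)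
      (by simp [S, reassoc_of% hh])
      (fun k hk => (isZero_single_obj_X (ComplexShape.up ℤ) 0 X₁ k (by simp at hk; omega)).eq_of_tgt _ _)
  let q : S ⟶ double d hr :=
    mkHomFromSingle (doubleXIso₁ d hr (by decide)).inv
      (fun k hk => (isZero_double_X d hr k (by simp at hk; omega) (by simp at hk; omega)).eq_of_tgt _ _)
  have hpq : H8Props.NLCx.HasComps hr (p ≫ q) 0 h := by
    constructor
    · simp [p]
    · simp [p, q, S]
  let ho := H8Props.NLCx.doubleHomotopy (smul_hasComps d hr g) hpq s (by rw [hsd, add_zero])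
    (by simp [h])
  have h2 : DerivedCategory.Q.map (g • 𝟙 (double d hr)) = DerivedCategory.Q.map (p ≫ q) := by
    rw [← NatIso.naturality_1 (DerivedCategory.quotientCompQhIso (ModuleCat.{u} B)) (g • 𝟙 (double d hr)),
      Functor.comp_map, HomotopyCategory.eq_of_homotopy _ _ ho, ← Functor.comp_map,
      NatIso.naturality_1]
  let eF := (DerivedCategory.singleFunctorIsoCompQ (ModuleCat.{u} B) 0).app X₁
  have h0 : DerivedCategory.Q.map q ≫ φ = 0 := by
    have := H4DR.Ext.hom_eq_zero_of_projective X₁ (L := (Dual.inD B N)⟦(1 : ℤ)⟧) ?_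
      (eF.hom ≫ DerivedCategory.Q.map q ≫ φ)
    · exact (cancel_epi eF.hom).1 (this.trans comp_zero.symm)
    intro i hi
    haveI : DerivedCategory.IsLE ((Dual.inD B N)⟦(1 : ℤ)⟧) (-1) :=
      DerivedCategory.TStructure.t.isLE_shift _ 0 1 (-1) (by omega)
    exact ModuleCat.subsingleton_of_isZero (DerivedCategory.isZero_of_isLE _ (-1) i (by omega))
  calc g • φ = DerivedCategory.Q.map (g • 𝟙 (double d hr)) ≫ φ := by
        rw [Functor.map_smul, CategoryTheory.Functor.map_id, Linear.smul_comp, Category.id_comp]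
    _ = 0 := by rw [h2, Functor.map_comp, Category.assoc, h0, comp_zero]

end Abstract

section Concrete

open MvPolynomial Algebra

variable {A B : Type u} [CommRing A] [CommRing B] [Algebra A B] {n m : ℕ} (hmn : m ≤ n)
  (G : Generators A B (Fin n)) (F : Fin m → G.toExtension.Ring)
  (hF : G.toExtension.ker = Ideal.span (Set.range F))

include hF in
theorem mem_ker (j : Fin m) : F j ∈ G.toExtension.ker := hF ▸ Ideal.subset_span ⟨j, rfl⟩

/-- The classes of the relations. -/
noncomputable def rel (j : Fin m) : G.toExtension.Cotangent :=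
  Extension.Cotangent.mk ⟨F j, mem_ker G F hF j⟩

/-- The Jacobian matrix. -/
noncomputable def jac : Matrix (Fin m) (Fin m) B :=
  Matrix.of fun i j : Fin m => aeval G.val (pderiv (Fin.castLE hmn i) (F j : MvPolynomial (Fin n) A))

theorem repr_rel (j : Fin m) (i : Fin n) :
    G.cotangentSpaceBasis.repr (G.toExtension.cotangentComplex (rel G F hF j)) i =
      aeval G.val (pderiv i (F j : MvPolynomial (Fin n) A)) := by
  rw [rel, Extension.cotangentComplex_mk]
  exact G.cotangentSpaceBasis_repr_one_tmul _ i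

/-- The contraction given by the adjugate. -/
noncomputable def contr : G.toExtension.CotangentSpace →ₗ[B] G.toExtension.Cotangent :=
  G.cotangentSpaceBasis.constr B fun i =>
    if h : (i : ℕ) < m then ∑ k, (jac hmn G F).adjugate k ⟨i, h⟩ • rel G F hF k else 0

theorem contr_rel (j : Fin m) :
    contr hmn G F hF (G.toExtension.cotangentComplex (rel G F hF j)) = (jac hmn G F).det • rel G F hF j := by
  classical
  rw [contr, Module.Basis.constr_apply_fintype]
  simp only [Module.Basis.equivFun_apply, repr_rel]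
  rw [← Fintype.sum_of_injective (Fin.castLE hmn) (Fin.castLE_injective hmn)
    (fun i : Fin m => jac hmn G F i j • ∑ k, (jac hmn G F).adjugate k i • rel G F hF k) _
    (fun i hi => by
      rw [dif_neg fun h => hi ⟨⟨i, h⟩, rfl⟩, smul_zero])
    (fun i => by
      rw [dif_pos (show ((Fin.castLE hmn i : Fin n) : ℕ) < m from i.isLt)]
      rfl)]
  simp only [Finset.smul_sum, smul_smul]
  rw [Finset.sum_comm]
  simp only [← Finset.sum_smul]
  have key : ∀ k, (∑ i, jac hmn G F i j * (jac hmn G F).adjugate k i) =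
      (jac hmn G F).det * (1 : Matrix (Fin m) (Fin m) B) k j := fun k => by
    simp_rw [mul_comm (jac hmn G F _ j)]
    rw [← Matrix.mul_apply, Matrix.adjugate_mul, Matrix.smul_apply, smul_eq_mul]
  rw [Finset.sum_eq_single j]
  · rw [key, Matrix.one_apply_eq, mul_one]
  · intro k _ hk
    rw [key, Matrix.one_apply_ne hk, mul_zero, zero_smul]
  · exact fun h => absurd (Finset.mem_univ j) h

theorem contr_cotangentComplex (x : G.toExtension.Cotangent) :
    contr hmn G F hF (G.toExtension.cotangentComplex x) = (jac hmn G F).det • x := by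
  classical
  obtain ⟨⟨p, hp⟩, rfl⟩ := Extension.Cotangent.mk_surjective x
  obtain ⟨c, hc⟩ := Ideal.mem_span_range_iff_exists_fun.1 (hF.le hp)
  have hx : Extension.Cotangent.mk (⟨p, hp⟩ : G.toExtension.ker) =
      ∑ j, algebraMap G.toExtension.Ring B (c j) • rel G F hF j := by
    have h1 : (⟨p, hp⟩ : G.toExtension.ker) =
        ∑ j, (c j) • (⟨F j, mem_ker G F hF j⟩ : G.toExtension.ker) := Subtype.ext (by
      simp only [AddSubmonoidClass.coe_finsetSum, Submodule.coe_smul, smul_eq_mul, hc])
    rw [h1, map_sum]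
    refine Finset.sum_congr rfl fun j _ => ?_
    rw [map_smul, rel, algebraMap_smul]
  rw [hx]
  simp only [map_sum, map_smul, contr_rel, Finset.smul_sum, smul_comm (jac hmn G F).det]

include hmn in
theorem cotangentComplex_contr (hnm : n = m) (x : G.toExtension.CotangentSpace) :
    G.toExtension.cotangentComplex (contr hmn G F hF x) = (jac hmn G F).det • x := by
  classical
  suffices G.toExtension.cotangentComplex ∘ₗ contr hmn G F hF = (jac hmn G F).det • LinearMap.id from
    LinearMap.congr_fun this x
  refine G.cotangentSpaceBasis.ext fun i => G.cotangentSpaceBasis.repr.injective ?_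
  ext l
  have hi : (i : ℕ) < m := hnm ▸ i.isLt
  have hl : (l : ℕ) < m := hnm ▸ l.isLt
  rw [LinearMap.comp_apply, LinearMap.smul_apply, LinearMap.id_apply, contr, Module.Basis.constr_basis,
    dif_pos hi, map_sum, map_sum, map_smul, Module.Basis.repr_self, Finsupp.smul_apply, Finsupp.finsetSum_apply]
  simp only [map_smul, Finsupp.smul_apply, repr_rel, smul_eq_mul]
  have key : ∀ k, aeval G.val (pderiv l (F k : MvPolynomial (Fin n) A)) = jac hmn G F ⟨l, hl⟩ k := fun k => rfl
  simp only [key, mul_comm _ (jac hmn G F ⟨l, hl⟩ _)]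
  rw [← Matrix.mul_apply, Matrix.mul_adjugate, Matrix.smul_apply, Matrix.one_apply, Finsupp.single_apply, smul_eq_mul]
  congr 1
  simp only [Fin.ext_iff, eq_comm]

include hF in
theorem kill : (∀ (N : Type u) [AddCommGroup N] [Module B N]
      (φ : LCI.NL A B ⟶ (Dual.inD B N)⟦(1 : ℤ)⟧), (jac hmn G F).det • φ = 0) ∧
      (n = m → (jac hmn G F).det • 𝟙 (LCI.NL A B) = 0) := by
  obtain ⟨e⟩ := NLIso.nonempty_iso' A B G
  haveI := Module.Free.of_basis G.cotangentSpaceBasis
  haveI : Module.Projective B (ModuleCat.of B G.toExtension.CotangentSpace) :=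
    inferInstanceAs (Module.Projective B G.toExtension.CotangentSpace)
  haveI := ModuleCat.projective_of_categoryTheory_projective (ModuleCat.of B G.toExtension.CotangentSpace)
  have hsd : ModuleCat.ofHom G.toExtension.cotangentComplex ≫ ModuleCat.ofHom (contr hmn G F hF) =
      (jac hmn G F).det • 𝟙 _ :=
    ModuleCat.hom_ext (LinearMap.ext fun x => contr_cotangentComplex hmn G F hF x)
  refine ⟨fun N _ _ φ => ?_, fun hnm => ?_⟩
  · have h1 := smul_eq_zero _ (show (ComplexShape.up ℤ).Rel (-1) 0 by simp) _ _ hsd N (e.hom ≫ φ)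
    rw [← Linear.comp_smul] at h1
    exact (cancel_epi e.hom).1 (h1.trans comp_zero.symm)
  · have hds : ModuleCat.ofHom (contr hmn G F hF) ≫ ModuleCat.ofHom G.toExtension.cotangentComplex =
        (jac hmn G F).det • 𝟙 _ :=
      ModuleCat.hom_ext (LinearMap.ext fun x => cotangentComplex_contr hmn G F hF hnm x)
    have h1 := smul_id_eq_zero _ (show (ComplexShape.up ℤ).Rel (-1) 0 by simp) _ _ hsd hds
    have h2 := congrArg (fun w => e.inv ≫ w ≫ e.hom) h1
    simp only [Linear.smul_comp, Linear.comp_smul, zero_comp, comp_zero] at h2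
    erw [Category.id_comp, Iso.inv_hom_id] at h2
    exact h2

end Concrete

end Groth.Agent.H11LCI.JacobianKill
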