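import Groth.Agent.H9CI.KoszulLocal
import Groth.Agent.H13CI.TransReg
import Groth.Agent.H29Slice.SeqOps
import Groth.Agent.H29Slice.KoszulReg
import Groth.Agent.S2868

/-!
# Lifts of Koszul-regular sequences over Artinian local rings
-/

set_option autoImplicit false
set_option linter.style.haveILetI false

noncomputable section

universe u

open TensorProduct CategoryTheory CategoryTheory.Limits IsLocalRing RingTheory.Sequence

namespace Groth.Agent.H11LCI

/-- Koszul regularity can be checked in the local rings at primes containing the sequence. -/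
theorem isKoszulRegularSeq_of_atPrime {A : Type u} [CommRing A] (l : List A)
    (H : ∀ p : Ideal A, ∀ _ : p.IsPrime, (∀ f ∈ l, f ∈ p) →
      LCI.IsKoszulRegularSeq (Localization.AtPrime p) (l.map (algebraMap A (Localization.AtPrime p)))) :
    LCI.IsKoszulRegularSeq A l := by
  intro i hi
  rw [← HomologicalComplex.exactAt_iff_isZero_homology,
    HomologicalComplex.exactAt_iff' _ (i - 1) i (i + 1) (by simp) (by simp),
    ShortComplex.moduleCat_exact_iff]
  intro x hx
  change (Koszul.koszul A l).X i at x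
  replace hx : (Koszul.koszul A l).d i (i + 1) x = 0 := hx
  let S : Submodule A _ := LinearMap.range ((Koszul.koszul A l).d (i - 1) i).hom
  show x ∈ S
  by_contra hxS
  let J : Ideal A :=
    { carrier := {a | a • x ∈ S}
      zero_mem' := by simp
      add_mem' := fun {a b} ha hb => by
        show (a + b) • x ∈ S
        rw [add_smul]; exact S.add_mem ha hb
      smul_mem' := fun r a ha => by
        show (r • a) • x ∈ S
        rw [smul_eq_mul, mul_smul]; exact S.smul_mem r ha }
  obtain ⟨p, hp, hJp⟩ := Ideal.exists_le_maximal J fun h => hxS (by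
    have : (1 : A) ∈ J := h ▸ trivial
    simpa [J] using this)
  let L := Localization.AtPrime p
  obtain ⟨e, he⟩ := H17.KoszulBC.exists_equiv L l
  let y := e i ((1 : L) ⊗ₜ[A] x)
  have hy : (Koszul.koszul L (l.map (algebraMap A L))).d i (i + 1) y = 0 := by
    rw [he i (i + 1) rfl, LinearMap.baseChange_tmul]
    erw [hx]
    rw [TensorProduct.tmul_zero, map_zero]
  obtain ⟨w, hw⟩ : ∃ w, (Koszul.koszul L (l.map (algebraMap A L))).d (i - 1) i w = y := by
    by_cases hall : ∀ f ∈ l, f ∈ p
    · exact H29Slice.exists_preimage_of_isZero_homology _ (i - 1) i (i + 1) (by omega) rfl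
        (H p inferInstance hall i hi) y hy
    · push Not at hall
      obtain ⟨f, hf, hfp⟩ := hall
      exact H9CI.koszul_exact_of_isUnit _ ⟨_, List.mem_map_of_mem hf, IsLocalization.map_units L (⟨f, hfp⟩ : p.primeCompl)⟩
        (i - 1) i (i + 1) (by omega) rfl y hy
  obtain ⟨z, rfl⟩ := (e (i - 1)).surjective w
  rw [he (i - 1) i (by omega)] at hw
  have hw' := (e i).injective hw
  obtain ⟨⟨z0, s⟩, hz⟩ := IsLocalizedModule.surj p.primeCompl
    (TensorProduct.mk A L ((Koszul.koszul A l).X (i - 1)) 1) z
  have h2 : TensorProduct.mk A L ((Koszul.koszul A l).X i) 1 ((Koszul.koszul A l).d (i - 1) i z0) =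
      TensorProduct.mk A L ((Koszul.koszul A l).X i) 1 ((s : A) • x) := by
    have h3 := congrArg (((Koszul.koszul A l).d (i - 1) i).hom.baseChange L) hz
    rw [show (s • z : L ⊗[A] _) = (s : A) • z from rfl, ← algebraMap_smul L (s : A) z, map_smul, hw',
      algebraMap_smul] at h3
    rw [map_smul]
    exact h3.symm
  obtain ⟨s', hs'⟩ := IsLocalizedModule.exists_of_eq (S := p.primeCompl) h2
  have hmem : (s' : A) * s ∈ J := by
    show ((s' : A) * s) • x ∈ S
    rw [mul_smul]
    refine ⟨(s' : A) • z0, ?_⟩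
    rw [map_smul]
    exact hs'
  rcases hp.isPrime.mem_or_mem (hJp hmem) with h | h
  exacts [s'.2 h, s.2 h]

section Lift

variable {A R : Type u} [CommRing A] [CommRing R] [Algebra A R] (I m : Ideal A)

/-- Members of an extended ideal are sums. -/
theorem exists_sum_of_mem_map {z : R} (hz : z ∈ m.map (algebraMap A R)) :
    ∃ (n : ℕ) (p : Fin n → A) (y : Fin n → R), (∀ j, p j ∈ m) ∧ ∑ j, p j • y j = z := by
  induction hz using Submodule.span_induction with
  | mem w hw =>
    obtain ⟨a, ha, rfl⟩ := hw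
    exact ⟨1, fun _ => a, fun _ => 1, fun _ => ha, by simp [Algebra.smul_def]⟩
  | zero => exact ⟨0, Fin.elim0, Fin.elim0, fun i => i.elim0, by simp⟩
  | add w w' _ _ hw hw' =>
    obtain ⟨n, p, y, h1, rfl⟩ := hw
    obtain ⟨n', p', y', h2, rfl⟩ := hw'
    refine ⟨n + n', Fin.append p p', Fin.append y y', fun i => ?_, ?_⟩
    · induction i using Fin.addCases with
      | left i => simpa using h1 i
      | right i => simpa using h2 i
    · simp [Fin.sum_univ_add]
  | smul r w _ hw =>
    obtain ⟨n, p, y, h1, rfl⟩ := hw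
    exact ⟨n, p, fun i => r • y i, h1, by rw [Finset.smul_sum]; exact Finset.sum_congr rfl fun i _ => smul_comm _ _ _⟩

/-- The equational criterion modulo an ideal. -/
theorem exists_relation (J : Ideal R) [Algebra (A ⧸ I) (R ⧸ J)] [IsScalarTower A (A ⧸ I) (R ⧸ J)]
    [Module.Flat (A ⧸ I) (R ⧸ J)] {n : ℕ} (p : Fin n → A) (y : Fin n → R) (h : ∑ j, p j • y j ∈ J) :
    ∃ (k : ℕ) (a : Fin n → Fin k → A) (z : Fin k → R),
      (∀ j, y j - ∑ l, a j l • z l ∈ J) ∧ ∀ l, ∑ j, p j * a j l ∈ I := by
  have h' : ∑ j, Ideal.Quotient.mk I (p j) • Ideal.Quotient.mk J (y j) = 0 := by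
    rw [← Ideal.Quotient.eq_zero_iff_mem.2 h, map_sum]
    exact Finset.sum_congr rfl fun j _ => (algebraMap_smul (A ⧸ I) (p j) (Ideal.Quotient.mk J (y j)))
  obtain ⟨k, a, z, hz, ha⟩ := Module.Flat.isTrivialRelation_of_sum_smul_eq_zero (R := A ⧸ I) (M := R ⧸ J) h'
  choose z' hz' using fun l => Ideal.Quotient.mk_surjective (z l)
  choose a' ha' using fun j l => Ideal.Quotient.mk_surjective (a j l)
  refine ⟨k, a', z', fun j => ?_, fun l => ?_⟩
  · rw [← Ideal.Quotient.eq_zero_iff_mem, map_sub, map_sum, show Ideal.Quotient.mk J (y j) = _ from hz j, sub_eq_zero]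
    exact Finset.sum_congr rfl fun l _ => by
      rw [← ha' j l]
      exact (algebraMap_smul (A ⧸ I) (a' j l) _).trans (congrArg (a' j l • ·) (hz' l).symm)
  · rw [← Ideal.Quotient.eq_zero_iff_mem, map_sum]
    refine Eq.trans ?_ (ha l)
    exact Finset.sum_congr rfl fun j _ => by rw [map_mul, ha']

/-- The sequence is `H₁`-regular on the fibre. -/
theorem isH1Regular_fibre (hIm : I ≤ m) {r : ℕ} (f : Fin r → R)
    (hf : CAlgX.IsH1Regular fun i => Ideal.Quotient.mk (I.map (algebraMap A R)) (f i))
    [Algebra (A ⧸ I) (R ⧸ (Ideal.span (Set.range f) ⊔ I.map (algebraMap A R)))]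
    [IsScalarTower A (A ⧸ I) (R ⧸ (Ideal.span (Set.range f) ⊔ I.map (algebraMap A R)))]
    [Module.Flat (A ⧸ I) (R ⧸ (Ideal.span (Set.range f) ⊔ I.map (algebraMap A R)))] :
    CAlgX.IsH1Regular fun i => Ideal.Quotient.mk (m.map (algebraMap A R)) (f i) := by
  classical
  intro ab hab
  choose a ha using fun i => Ideal.Quotient.mk_surjective (ab i)
  have hmem : ∑ i, a i * f i ∈ m.map (algebraMap A R) := by
    rw [← Ideal.Quotient.eq_zero_iff_mem, map_sum, ← hab]
    exact Finset.sum_congr rfl fun i _ => by rw [map_mul, ha]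
  obtain ⟨n, p, y, hp, hy⟩ := exists_sum_of_mem_map m hmem
  have hJ : ∑ j, p j • y j ∈ Ideal.span (Set.range f) ⊔ I.map (algebraMap A R) := by
    rw [hy]
    exact Submodule.mem_sup_left (Ideal.sum_mem _ fun i _ => Ideal.mul_mem_left _ _ (Ideal.subset_span ⟨i, rfl⟩))
  obtain ⟨k, c, z, hc, hpc⟩ := exists_relation I _ p y hJ
  have hsplit : ∀ j, ∃ b : Fin r → R, y j - ∑ l, c j l • z l - ∑ i, b i * f i ∈ I.map (algebraMap A R) := fun j => by
    obtain ⟨u, hu, v, hv, huv⟩ := Submodule.mem_sup.1 (hc j)
    obtain ⟨b, hb⟩ := Ideal.mem_span_range_iff_exists_fun.1 hu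
    exact ⟨b, by rw [hb, ← huv]; simpa using hv⟩
  choose b hb using hsplit
  let a' : Fin r → R := fun i => a i - ∑ j, p j • b j i
  have hrel : ∑ i, Ideal.Quotient.mk (I.map (algebraMap A R)) (a' i) *
      Ideal.Quotient.mk (I.map (algebraMap A R)) (f i) = 0 := by
    simp only [← map_mul, ← map_sum, Ideal.Quotient.eq_zero_iff_mem]
    have e : ∑ i, a' i * f i =
        ∑ j, p j • (y j - ∑ l, c j l • z l - ∑ i, b j i * f i) + ∑ l, (∑ j, p j * c j l) • z l := by
      simp only [a', sub_mul, Finset.sum_mul, Finset.sum_sub_distrib, smul_sub, Finset.smul_sum, smul_smul,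
        Finset.sum_smul, smul_mul_assoc]
      rw [hy, Finset.sum_comm (f := fun i j => p j • (b j i * f i)),
        Finset.sum_comm (f := fun j l => (p j * c j l) • z l)]
      abel
    rw [e]
    refine add_mem (Ideal.sum_mem _ fun j _ => ?_) (Ideal.sum_mem _ fun l _ => ?_)
    · rw [Algebra.smul_def]; exact Ideal.mul_mem_left _ _ (hb j)
    · rw [Algebra.smul_def]; exact Ideal.mul_mem_right _ _ (Ideal.mem_map_of_mem _ (hpc l))
  have h1 := hf _ hrel
  let π : R ⧸ I.map (algebraMap A R) →+* R ⧸ m.map (algebraMap A R) :=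
    Ideal.Quotient.factor (Ideal.map_mono hIm)
  letI := π.toAlgebra
  have h2 := H29Slice.map_mem_trivRel (L := R ⧸ m.map (algebraMap A R))
    (fun i => Ideal.Quotient.mk (I.map (algebraMap A R)) (f i)) h1
  have e : (fun i => algebraMap (R ⧸ I.map (algebraMap A R)) (R ⧸ m.map (algebraMap A R))
      (Ideal.Quotient.mk (I.map (algebraMap A R)) (a' i))) = ab := funext fun i => by
    change Ideal.Quotient.mk (m.map (algebraMap A R)) (a' i) = ab i
    rw [← ha i, Ideal.Quotient.eq]
    have : ∑ j, p j • b j i ∈ m.map (algebraMap A R) := Ideal.sum_mem _ fun j _ => by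
      rw [Algebra.smul_def]; exact Ideal.mul_mem_right _ _ (Ideal.mem_map_of_mem _ (hp j))
    simpa [a'] using neg_mem this
  rw [e] at h2
  exact h2

/-- Over an Artinian local ring a lift of a sequence regular on the fibre is regular with flat quotient. -/
theorem flat_and_koszul_of_fibre [IsLocalRing A] [IsArtinianRing A] [IsNoetherianRing R] [Module.Flat A R] {r : ℕ}
    (f : Fin r → R) (hf : CAlgX.IsH1Regular fun i => Ideal.Quotient.mk ((maximalIdeal A).map (algebraMap A R)) (f i)) :
    Module.Flat A (R ⧸ Ideal.span (Set.range f)) ∧ LCI.IsKoszulRegularSeq R (List.ofFn f) := by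
  classical
  have loc : ∀ (P : Ideal R) (_ : P.IsPrime), (∀ i, f i ∈ P) →
      RegImm.IsTransRegularSeq A (Localization.AtPrime P) ((List.ofFn f).map (algebraMap R (Localization.AtPrime P))) := by
    intro P _ hP
    let C := Localization.AtPrime P
    haveI : P.LiesOver (maximalIdeal A) := ⟨((isArtinianRing_iff_isNilpotent_maximalIdeal A).1 inferInstance |>
      fun hnil => le_antisymm (fun a ha => by
        obtain ⟨k, hk⟩ := hnil
        have : algebraMap A R a ^ k ∈ P := by
          have h0 : a ^ k ∈ maximalIdeal A ^ k := Ideal.pow_mem_pow ha k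
          rw [hk, Ideal.zero_eq_bot, Ideal.mem_bot] at h0
          rw [← map_pow, h0, map_zero]
          exact zero_mem _
        exact ‹P.IsPrime›.mem_of_pow_mem k this) (le_maximalIdeal (Ideal.comap_ne_top _ ‹P.IsPrime›.ne_top)))⟩
    haveI : IsLocalHom (algebraMap A C) := ⟨fun a ha => by
      by_contra hna
      have hmem : algebraMap A R a ∈ P := ((SetLike.ext_iff.1 (P.over_def (maximalIdeal A)) a).1 hna)
      rw [IsScalarTower.algebraMap_apply A R C, IsLocalization.AtPrime.isUnit_to_map_iff C P] at ha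
      exact ha hmem⟩
    haveI : Module.Flat R C := IsLocalization.flat C P.primeCompl
    haveI : Module.Flat A C := Module.Flat.trans A R C
    refine H13CI.isTransRegularSeq_of_fibre _ C _ rfl (fun x hx => ?_) ?_
    · obtain ⟨y, hy, rfl⟩ := List.mem_map.1 hx
      obtain ⟨i, rfl⟩ := List.mem_ofFn.1 hy
      exact (IsLocalization.AtPrime.to_map_mem_maximal_iff C P (f i)).2 (hP i)
    · have hmap : (maximalIdeal A).map (algebraMap A C) = ((maximalIdeal A).map (algebraMap A R)).map (algebraMap R C) := by
        rw [Ideal.map_map, ← IsScalarTower.algebraMap_eq]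
      rw [hmap]
      let K := (maximalIdeal A).map (algebraMap A R)
      let D := C ⧸ K.map (algebraMap R C)
      haveI : IsLocalization (Algebra.algebraMapSubmonoid (R ⧸ K) P.primeCompl) D := inferInstance
      have h1 := H29Slice.isH1Regular_localization (L := D) (Algebra.algebraMapSubmonoid (R ⧸ K) P.primeCompl) hf
      have h2 : CInt.KoszulH1Zero (fun i => Ideal.Quotient.mk (K.map (algebraMap R C)) (algebraMap R C (f i))) D := by
        intro mm hmm
        have h3 := h1 mm (Eq.trans (Finset.sum_congr rfl fun i _ => by rw [smul_eq_mul, mul_comm]; rfl) hmm)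
        refine Submodule.span_mono ?_ h3
        rintro v ⟨i, j, rfl⟩
        refine ⟨i, j, 1, ?_⟩
        rw [← Pi.single_smul', ← Pi.single_smul', smul_eq_mul, smul_eq_mul, mul_one, mul_one]
        rfl
      haveI : Nontrivial D := Ideal.Quotient.nontrivial_iff.2 (ne_top_of_le_ne_top (maximalIdeal.isMaximal C).ne_top
        (Ideal.map_le_iff_le_comap.2 (Ideal.map_le_iff_le_comap.2 fun a ha => by
          rw [Ideal.mem_comap, Ideal.mem_comap, ← IsScalarTower.algebraMap_apply A R C]
          exact map_nonunit (algebraMap A C) a ha)))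
      haveI : IsLocalRing D := IsLocalRing.of_surjective' (Ideal.Quotient.mk _) Ideal.Quotient.mk_surjective
      haveI : IsLocalHom (Ideal.Quotient.mk (K.map (algebraMap R C))) :=
        IsLocalHom.of_surjective _ Ideal.Quotient.mk_surjective
      have h4 := Groth.Agent.S2868.result (A := D) _ (fun i => by
        rw [IsLocalRing.jacobson_eq_maximalIdeal _ bot_ne_top, mem_maximalIdeal]
        exact map_nonunit (Ideal.Quotient.mk (K.map (algebraMap R C))) _
          ((IsLocalization.AtPrime.to_map_mem_maximal_iff C P (f i)).2 (hP i))) D h2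
      rw [List.map_ofFn, ← isWeaklyRegular_map_algebraMap_iff (R := C) D D, List.map_ofFn]
      exact h4
  refine ⟨?_, isKoszulRegularSeq_of_atPrime _ fun P hP hmem => H29Slice.isKoszulRegular_of_isWeaklyRegular
    (loc P hP fun i => hmem (f i) (List.mem_ofFn.2 ⟨i, rfl⟩)).1⟩
  let Q := R ⧸ Ideal.span (Set.range f)
  refine Module.flat_of_isLocalized_maximal (R := A) Q Q (fun P _ => Localization.AtPrime P)
    (fun P _ => Algebra.linearMap Q (Localization.AtPrime P)) fun M hM => ?_
  let P := M.comap (Ideal.Quotient.mk (Ideal.span (Set.range f)))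
  haveI : P.IsPrime := Ideal.IsPrime.comap (hK := hM.isPrime) _
  have hmem : ∀ i, f i ∈ P := fun i => by
    change Ideal.Quotient.mk (Ideal.span (Set.range f)) (f i) ∈ M
    rw [Ideal.Quotient.eq_zero_iff_mem.2 (Ideal.subset_span (Set.mem_range_self i))]
    exact zero_mem _
  have hl := (loc P inferInstance hmem).2 r (by simp)
  let C := Localization.AtPrime P
  have hspan : Ideal.ofList (((List.ofFn f).map (algebraMap R C)).take r) = (Ideal.span (Set.range f)).map (algebraMap R C) := by
    rw [List.take_of_length_le (by simp), ← Ideal.map_ofList]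
    congr 1
    change Ideal.span {x | x ∈ List.ofFn f} = _
    congr 1
    ext x
    simp [List.mem_ofFn]
  haveI : Module.Flat A (C ⧸ (Ideal.span (Set.range f)).map (algebraMap R C)) := by
    haveI := hl
    exact Module.Flat.of_linearEquiv (Ideal.quotientEquivAlgOfEq A hspan.symm).toLinearEquiv
  let Qb := C ⧸ (Ideal.span (Set.range f)).map (algebraMap R C)
  haveI : IsScalarTower A Q Qb := IsScalarTower.of_algebraMap_eq (R := A) (S := Q) (A := Qb) fun a =>
    congrArg (Ideal.Quotient.mk _) (IsScalarTower.algebraMap_apply A R C a)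
  haveI : IsLocalization M.primeCompl Qb := by
    rw [show M.primeCompl = Algebra.algebraMapSubmonoid Q P.primeCompl from ?_]
    · infer_instance
    ext x
    obtain ⟨x, rfl⟩ := Ideal.Quotient.mk_surjective x
    refine ⟨fun hx => ⟨x, hx, rfl⟩, ?_⟩
    rintro ⟨y, hy, hyx⟩
    exact fun hx => hy (show Ideal.Quotient.mk _ y ∈ M from (show Ideal.Quotient.mk _ y = Ideal.Quotient.mk _ x from hyx) ▸ hx)
  exact Module.Flat.of_linearEquiv
    ((IsLocalization.algEquiv M.primeCompl (Localization.AtPrime M) Qb).restrictScalars A).toLinearEquiv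

/-- A flat lift of the quotient is cut out by lifted generators. -/
theorem eq_span_of_flat (hI : IsNilpotent I) {r : ℕ} (J : Ideal R) [Module.Flat A (R ⧸ J)] (f : Fin r → R)
    (hf : ∀ i, f i ∈ J) (hle : J ≤ Ideal.span (Set.range f) ⊔ I.map (algebraMap A R)) :
    J = Ideal.span (Set.range f) := by
  classical
  refine le_antisymm ?_ (Ideal.span_le.2 (Set.range_subset_iff.2 hf))
  have key : J ≤ Ideal.span (Set.range f) ⊔ I.map (algebraMap A R) * J := by
    intro x hx
    obtain ⟨u, hu, v, hv, rfl⟩ := Submodule.mem_sup.1 (hle hx)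
    have huJ : u ∈ J := Ideal.span_le.2 (Set.range_subset_iff.2 hf) hu
    have hvJ : v ∈ J := by simpa using J.sub_mem hx huJ
    obtain ⟨n, p, y, hp, rfl⟩ := exists_sum_of_mem_map I hv
    have h0 : ∑ j, p j • Ideal.Quotient.mk J (y j) = 0 := by
      rw [← Ideal.Quotient.eq_zero_iff_mem.2 hvJ, map_sum]
      exact Finset.sum_congr rfl fun j _ => rfl
    obtain ⟨k, a, z, hz, ha⟩ := Module.Flat.isTrivialRelation_of_sum_smul_eq_zero (R := A) (M := R ⧸ J) h0
    choose z' hz' using fun l => Ideal.Quotient.mk_surjective (z l)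
    refine Submodule.add_mem_sup hu ?_
    have e : ∑ j, p j • y j = ∑ j, p j • (y j - ∑ l, a j l • z' l) := by
      simp only [smul_sub, Finset.sum_sub_distrib, Finset.smul_sum, smul_smul]
      rw [Finset.sum_comm (f := fun j l => (p j * a j l) • z' l)]
      simp only [← Finset.sum_smul, ha, zero_smul, Finset.sum_const_zero, sub_zero]
    rw [e]
    refine Ideal.sum_mem _ fun j _ => ?_
    rw [Algebra.smul_def]
    refine Ideal.mul_mem_mul (Ideal.mem_map_of_mem _ (hp j)) ?_
    rw [← Ideal.Quotient.eq_zero_iff_mem, map_sub, map_sum, show Ideal.Quotient.mk J (y j) = _ from hz j, sub_eq_zero]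
    exact Finset.sum_congr rfl fun l _ => by rw [← hz' l]; rfl
  obtain ⟨N, hN⟩ := hI
  have hit : ∀ k, J ≤ Ideal.span (Set.range f) ⊔ (I.map (algebraMap A R)) ^ k * J := by
    intro k
    induction k with
    | zero => rw [pow_zero, Ideal.one_eq_top, Ideal.top_mul]; exact le_sup_right
    | succ k ih =>
      refine ih.trans (sup_le le_sup_left ((Ideal.mul_mono_right key).trans ?_))
      rw [Ideal.mul_sup, ← mul_assoc, ← pow_succ]
      exact sup_le_sup_right Ideal.mul_le_right _
  have := hit N
  rwa [← Ideal.map_pow, hN, Ideal.zero_eq_bot, Ideal.map_bot, Ideal.bot_mul, sup_bot_eq] at this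

end Lift

end Groth.Agent.H11LCI
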