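import Groth.Agent.H8Props.NLCx.Complex
import Groth.Prelude.Def_LCI2
import Mathlib.Algebra.Homology.DerivedCategory.Basic

/-!
# The naive cotangent complex through any presentation
-/

set_option autoImplicit false
set_option linter.style.haveILetI false
set_option backward.isDefEq.respectTransparency false

universe u

open CategoryTheory CategoryTheory.Limits HomologicalComplex

attribute [local instance] HasDerivedCategory.standard

namespace Groth.Agent.H11LCI.NLIso

variable (A B : Type u) [CommRing A] [CommRing B] [Algebra A B]

/-- `NL_{B/A}` is computed by any presentation, up to isomorphism in `D(B)`. -/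
theorem nonempty_iso {ι : Type u} (G : Algebra.Generators A B ι) :
    Nonempty (DRing.toD (_root_.NLCx.cx G.toExtension) ≅ LCI.NL A B) :=
  ⟨((DerivedCategory.quotientCompQhIso _).symm.app _) ≪≫
    DerivedCategory.Qh.mapIso (HomotopyCategory.isoOfHomotopyEquiv
      (H8Props.NLCx.mapHomotopyEquiv (G.defaultHom (Algebra.Generators.self A B)).toExtensionHom
        ((Algebra.Generators.self A B).defaultHom G).toExtensionHom)) ≪≫
    (DerivedCategory.quotientCompQhIso _).app _⟩

end Groth.Agent.H11LCI.NLIso

namespace Groth.Agent.H11LCI.NLIso

variable (A B : Type u) [CommRing A] [CommRing B] [Algebra A B]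

/-- Same, for small index types. -/
theorem nonempty_iso' {ι : Type} (G : Algebra.Generators A B ι) :
    Nonempty (DRing.toD (_root_.NLCx.cx G.toExtension) ≅ LCI.NL A B) :=
  ⟨((DerivedCategory.quotientCompQhIso _).symm.app _) ≪≫
    DerivedCategory.Qh.mapIso (HomotopyCategory.isoOfHomotopyEquiv
      (H8Props.NLCx.mapHomotopyEquiv (G.defaultHom (Algebra.Generators.self A B)).toExtensionHom
        ((Algebra.Generators.self A B).defaultHom G).toExtensionHom)) ≪≫
    (DerivedCategory.quotientCompQhIso _).app _⟩

end Groth.Agent.H11LCI.NLIso
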