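import Mathlib.RingTheory.MvPowerSeries.Expand
import Mathlib.RingTheory.MvPowerSeries.Derivative
import Mathlib.RingTheory.MvPowerSeries.Inverse
import Mathlib.RingTheory.MvPowerSeries.NoZeroDivisors
import Mathlib.RingTheory.Kaehler.Basic
import Mathlib.Algebra.CharP.Algebra
import Mathlib.FieldTheory.IsAlgClosed.Basic
import Mathlib.FieldTheory.Perfect
import Mathlib.Algebra.Category.ModuleCat.Projective
import Mathlib.Algebra.Category.ModuleCat.Abelian
import Mathlib.Algebra.Homology.ShortComplex.ModuleCat
import Mathlib.Algebra.Category.ModuleCat.Ext.HasExt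
import Mathlib.Algebra.Homology.DerivedCategory.Ext.ExactSequences
import Mathlib.Algebra.Homology.DerivedCategory.Ext.EnoughProjectives
import Mathlib.Algebra.Homology.DerivedCategory.Ext.Linear

/-!
# Differentials of power series over a perfect field and Ext of a hypersurface's differentials
-/

set_option autoImplicit false
set_option linter.style.haveILetI false

universe u

open CategoryTheory TensorProduct KaehlerDifferential

namespace Groth.Agent.H11LCI.PSHyperExt

section Kaehler

variable (k : Type u) [Field k] (p : ℕ) [Fact p.Prime] [CharP k p] [PerfectRing k p] (n : ℕ)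

/-- Every power series is a combination of `p`-th powers with monomial coefficients. -/
theorem exists_pow_decomp (f : MvPowerSeries (Fin n) k) : ∃ g : (Fin n → Fin p) → MvPowerSeries (Fin n) k,
    f = ∑ m, MvPowerSeries.monomial (Finsupp.equivFunOnFinite.symm fun i => ((m i : ℕ))) (1 : k) * g m ^ p := by
  classical
  let emb : (Fin n → Fin p) → (Fin n →₀ ℕ) := fun m => Finsupp.equivFunOnFinite.symm fun i => (m i : ℕ)
  have hp0 : p ≠ 0 := (Fact.out : p.Prime).ne_zero
  refine ⟨fun m N => (frobeniusEquiv k p).symm (MvPowerSeries.coeff (p • N + emb m) f), MvPowerSeries.ext fun M => ?_⟩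
  let m₀ : Fin n → Fin p := fun i => ⟨M i % p, Nat.mod_lt _ (Fact.out : p.Prime).pos⟩
  let N₀ : Fin n →₀ ℕ := Finsupp.equivFunOnFinite.symm fun i => M i / p
  have hM : M = p • N₀ + emb m₀ := by
    refine Finsupp.ext fun i => ?_
    simp [N₀, emb, m₀, Nat.div_add_mod]
  rw [map_sum, Finset.sum_eq_single m₀]
  · change _ = MvPowerSeries.coeff M (MvPowerSeries.monomial (emb m₀) 1 * _)
    rw [hM, mul_comm, MvPowerSeries.coeff_add_mul_monomial, mul_one,
      ← MvPowerSeries.map_frobenius_expand p hp0, MvPowerSeries.coeff_map, MvPowerSeries.coeff_expand_smul]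
    exact (frobeniusEquiv_apply k p _).symm.trans (RingEquiv.apply_symm_apply _ _) |>.symm
  · intro m _ hm
    change MvPowerSeries.coeff M (MvPowerSeries.monomial (emb m) 1 * _) = 0
    rw [mul_comm, MvPowerSeries.coeff_mul_monomial]
    split
    · rename_i hle
      rw [mul_one, ← MvPowerSeries.map_frobenius_expand p hp0, MvPowerSeries.coeff_map]
      obtain ⟨i, hi⟩ : ∃ i, m i ≠ m₀ i := Function.ne_iff.1 hm
      rw [MvPowerSeries.coeff_expand_of_not_dvd p hp0 _ (i := i) ?_, map_zero]
      intro hdvd
      have h1 : (m i : ℕ) ≤ M i := by simpa [emb] using hle i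
      have h2 : p ∣ M i - (m i : ℕ) := by simpa [emb] using hdvd
      have h3 : M i % p = (m i : ℕ) % p := ((Nat.modEq_iff_dvd' h1).2 h2).symm
      rw [Nat.mod_eq_of_lt (m i).2] at h3
      exact hi (Fin.ext h3.symm)
    · rfl
  · exact fun h => absurd (Finset.mem_univ _) h

include p in
/-- The differentials of power series are spanned by the differentials of the variables. -/
theorem span_D_X : Submodule.span (MvPowerSeries (Fin n) k)
    (Set.range fun i => D k (MvPowerSeries (Fin n) k) (MvPowerSeries.X i)) = ⊤ := by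
  classical
  haveI : CharP (MvPowerSeries (Fin n) k) p := charP_of_injective_algebraMap
    (algebraMap k (MvPowerSeries (Fin n) k)).injective p
  rw [eq_top_iff, ← span_range_derivation, Submodule.span_le]
  rintro _ ⟨f, rfl⟩
  obtain ⟨g, hg⟩ := exists_pow_decomp k p n f
  rw [hg, map_sum]
  refine sum_mem fun m _ => ?_
  rw [Derivation.leibniz, Derivation.leibniz_pow]
  have hp : (p : ℕ) • ((g m ^ (p - 1)) • D k (MvPowerSeries (Fin n) k) (g m)) = 0 := by
    rw [← Nat.cast_smul_eq_nsmul (MvPowerSeries (Fin n) k), CharP.cast_eq_zero, zero_smul]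
  rw [hp, smul_zero, zero_add]
  refine Submodule.smul_mem _ _ ?_
  have hmon : ∀ e : Fin n →₀ ℕ, D k (MvPowerSeries (Fin n) k) (MvPowerSeries.monomial e 1) ∈
      Submodule.span (MvPowerSeries (Fin n) k)
        (Set.range fun i => D k (MvPowerSeries (Fin n) k) (MvPowerSeries.X i)) := by
    intro e
    induction e using Finsupp.induction with
    | zero =>
      rw [MvPowerSeries.monomial_zero_eq_C_apply, map_one, Derivation.map_one_eq_zero]
      exact zero_mem _
    | single_add i c e _ _ ih =>
      have : MvPowerSeries.monomial (Finsupp.single i c + e) (1 : k) =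
          MvPowerSeries.X i ^ c * MvPowerSeries.monomial e 1 := by
        rw [MvPowerSeries.X_pow_eq, MvPowerSeries.monomial_mul_monomial, one_mul]
      rw [this, Derivation.leibniz, Derivation.leibniz_pow]
      exact add_mem (Submodule.smul_mem _ _ ih)
        (Submodule.smul_mem _ _ (nsmul_mem (Submodule.smul_mem _ _ (Submodule.subset_span (Set.mem_range_self i))) _))
  exact hmon _

include p in
/-- The differentials of power series are free on the differentials of the variables. -/
theorem projective_kaehler : Module.Projective (MvPowerSeries (Fin n) k) Ω[MvPowerSeries (Fin n) k⁄k] := by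
  classical
  let P := MvPowerSeries (Fin n) k
  let Φ : Ω[P⁄k] →ₗ[P] (Fin n → P) := LinearMap.pi fun i => (MvPowerSeries.pderiv k i).liftKaehlerDifferential
  let Ψ : (Fin n → P) →ₗ[P] Ω[P⁄k] := Fintype.linearCombination P fun i => D k P (MvPowerSeries.X i)
  refine Module.Projective.of_split Φ Ψ ?_
  refine LinearMap.ext_on_range (span_D_X k p n) fun i => ?_
  rw [LinearMap.comp_apply, LinearMap.id_apply, Fintype.linearCombination_apply, Finset.sum_eq_single i]
  · change (MvPowerSeries.pderiv k i).liftKaehlerDifferential (D k P (MvPowerSeries.X i)) • _ = _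
    rw [Derivation.liftKaehlerDifferential_comp_D, MvPowerSeries.pderiv_X_self, one_smul]
  · intro j _ hj
    change (MvPowerSeries.pderiv k j).liftKaehlerDifferential (D k P (MvPowerSeries.X i)) • _ = _
    rw [Derivation.liftKaehlerDifferential_comp_D, MvPowerSeries.pderiv_X_of_ne hj.symm, zero_smul]
  · exact fun h => absurd (Finset.mem_univ _) h

end Kaehler

section Ext

variable {R : Type u} [CommRing R] {F M : Type u} [AddCommGroup F] [Module R F] [AddCommGroup M] [Module R M]

/-- Ext of a module with a presentation `0 → R → F → M → 0`, `F` projective. -/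
theorem ext_of_presentation [Module.Projective R F] (s : R →ₗ[R] F) (π : F →ₗ[R] M) (hs : Function.Injective s)
    (hπ : Function.Surjective π) (hex : Function.Exact s π) :
    Subsingleton (Abelian.Ext (ModuleCat.of R M) (ModuleCat.of R R) 2) ∧
      Nonempty (Abelian.Ext (ModuleCat.of R M) (ModuleCat.of R R) 1 ≃ₗ[R]
        R ⧸ LinearMap.range (LinearMap.applyₗ (s 1) : (F →ₗ[R] R) →ₗ[R] R)) := by
  let S : ShortComplex (ModuleCat.{u} R) :=
    ShortComplex.mk (ModuleCat.ofHom s) (ModuleCat.ofHom π) (ModuleCat.hom_ext hex.linearMap_comp_eq_zero)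
  have hS : S.ShortExact :=
    { exact := (ShortComplex.moduleCat_exact_iff_range_eq_ker S).2 hex.linearMap_ker_eq.symm
      mono_f := (ModuleCat.mono_iff_injective _).2 hs
      epi_g := (ModuleCat.epi_iff_surjective _).2 hπ }
  let Y := ModuleCat.of R R
  haveI : Projective S.X₂ := inferInstanceAs (Projective (ModuleCat.of R F))
  haveI : Projective S.X₁ := inferInstanceAs (Projective (ModuleCat.of R R))
  refine ⟨⟨fun a b => ?_⟩, ?_⟩
  · suffices h : ∀ x : Abelian.Ext S.X₃ Y 2, x = 0 by exact (h a).trans (h b).symm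
    intro x
    obtain ⟨x₁, hx₁⟩ := Abelian.Ext.contravariant_sequence_exact₃ hS Y x
      (Abelian.Ext.eq_zero_of_projective _) (show 1 + 1 = 2 from rfl)
    rw [← hx₁, Abelian.Ext.eq_zero_of_projective x₁, Abelian.Ext.comp_zero]
  · let e : R →ₗ[R] Abelian.Ext S.X₃ Y 1 :=
      { toFun := fun r => hS.extClass.comp (Abelian.Ext.mk₀ (r • 𝟙 Y)) (add_zero 1)
        map_add' := fun r r' => by rw [add_smul, Abelian.Ext.mk₀_add, Abelian.Ext.comp_add]
        map_smul' := fun c r => by rw [RingHom.id_apply, smul_eq_mul, mul_smul, Abelian.Ext.mk₀_smul,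
          Abelian.Ext.comp_smul] }
    have hg : ∀ g : S.X₁ ⟶ Y, g = (g.hom (1 : R)) • 𝟙 Y := fun g => by
      refine ModuleCat.hom_ext (LinearMap.ext_ring ?_)
      change g.hom 1 = g.hom 1 • (1 : R)
      rw [smul_eq_mul, mul_one]
    have hsurj : Function.Surjective e := fun x => by
      obtain ⟨x₁, hx₁⟩ := Abelian.Ext.contravariant_sequence_exact₃ hS Y x
        (Abelian.Ext.eq_zero_of_projective _) (show 1 + 0 = 1 from rfl)
      obtain ⟨g, rfl⟩ := (Abelian.Ext.mk₀_bijective _ _).2 x₁
      exact ⟨g.hom 1, (congrArg (fun t => hS.extClass.comp (Abelian.Ext.mk₀ t) (add_zero 1)) (hg g).symm).trans hx₁⟩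
    have hker : LinearMap.ker e = LinearMap.range (LinearMap.applyₗ (s 1) : (F →ₗ[R] R) →ₗ[R] R) := by
      ext r
      constructor
      · intro hr
        obtain ⟨x₂, hx₂⟩ := Abelian.Ext.contravariant_sequence_exact₁ hS Y _ (show 1 + 0 = 1 from rfl)
          (LinearMap.mem_ker.1 hr)
        obtain ⟨g, rfl⟩ := (Abelian.Ext.mk₀_bijective _ _).2 x₂
        rw [Abelian.Ext.mk₀_comp_mk₀] at hx₂
        have := congrArg (fun h : S.X₁ ⟶ Y => h.hom (1 : R)) ((Abelian.Ext.mk₀_bijective _ _).1 hx₂)
        refine ⟨g.hom, ?_⟩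
        change g.hom (s 1) = r • (1 : R) at this
        rwa [smul_eq_mul, mul_one] at this
      · rintro ⟨φ, rfl⟩
        have h : S.f ≫ ModuleCat.ofHom φ = φ (s 1) • 𝟙 Y := hg (S.f ≫ ModuleCat.ofHom φ)
        rw [LinearMap.mem_ker]
        change hS.extClass.comp (Abelian.Ext.mk₀ (φ (s 1) • 𝟙 Y)) (add_zero 1) = 0
        rw [← h, ← Abelian.Ext.mk₀_comp_mk₀]
        exact ShortComplex.ShortExact.extClass_comp_assoc _ _
    exact ⟨((Submodule.quotEquivOfEq _ _ hker.symm).trans (LinearMap.quotKerEquivOfSurjective e hsurj)).symm⟩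

end Ext

section Hyper

variable {k : Type u} [Field k]

/-- The maximal ideal is not associated to a hypersurface in at least two variables. -/
theorem mem_span_of_maximal_smul {n : ℕ} {i j : Fin n} (hij : i ≠ j) {f g : MvPowerSeries (Fin n) k} (hf : f ≠ 0)
    (hi : MvPowerSeries.X i * g ∈ Ideal.span {f}) (hj : MvPowerSeries.X j * g ∈ Ideal.span {f}) :
    g ∈ Ideal.span {f} := by
  classical
  obtain ⟨a, ha⟩ := Ideal.mem_span_singleton'.1 hi
  obtain ⟨b, hb⟩ := Ideal.mem_span_singleton'.1 hj
  have h : a * MvPowerSeries.X j = b * MvPowerSeries.X i := by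
    refine mul_right_cancel₀ hf ?_
    linear_combination (MvPowerSeries.X j) * ha - (MvPowerSeries.X i) * hb
  obtain ⟨a', rfl⟩ : MvPowerSeries.X i ∣ a := by
    rw [MvPowerSeries.X_dvd_iff]
    intro m hm
    have h1 := congrArg (MvPowerSeries.coeff (m + Finsupp.single j 1)) h
    rw [MvPowerSeries.X_def, MvPowerSeries.coeff_add_mul_monomial, mul_one, MvPowerSeries.X_def,
      MvPowerSeries.coeff_mul_monomial, if_neg] at h1
    · exact h1
    · intro hle
      have := hle i
      simp [hm, hij] at this
  refine Ideal.mem_span_singleton'.2 ⟨a', mul_left_cancel₀ (fun h0 => one_ne_zero ((MvPowerSeries.coeff_index_single_self_X (R := k) i).symm.trans ((congrArg (MvPowerSeries.coeff (Finsupp.single i 1)) h0).trans (map_zero _)))) ?_⟩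
  rw [← ha]
  ring

end Hyper

end Groth.Agent.H11LCI.PSHyperExt
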