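import Groth.Agent.H11LCI.NLIso
import Groth.Agent.H8Props.NLCx.Derived
import Groth.Agent.H8Props.NLCx.LCI
import Groth.Agent.H8Props.PseudoCoh.PerfectMap
import Groth.Agent.H29Slice.KoszulReg
import Groth.Agent.S2189

/-!
# Tor amplitude of `NL` and local complete intersections of finite tor dimension
-/

set_option autoImplicit false
set_option linter.style.haveILetI false

universe u

open CategoryTheory Algebra

attribute [local instance] HasDerivedCategory.standard

namespace Groth.Agent.H11LCI.PerfectNL

/-- Over a Noetherian ring finite modules of finite tor dimension have finite projective dimension. -/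
theorem hasProjectiveDimensionLT_of_hasTorDimLE {R : Type u} [CommRing R] [IsNoetherianRing R] :
    ∀ (n : ℕ) (M : Type u) [AddCommGroup M] [Module R M] [Module.Finite R M],
      DRing.HasTorDimLE R n M → HasProjectiveDimensionLT (ModuleCat.of R M) (n + 1)
  | 0, M, _, _, _, h => by
    haveI := H8Props.PseudoCoh.hasTorDimLE_zero_iff.mp h
    haveI := Module.finitePresentation_of_finite R M
    haveI : Module.Projective R M := Module.Flat.projective_of_finitePresentation
    haveI : Module.Projective R (ModuleCat.of R M) := inferInstanceAs (Module.Projective R M)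
    haveI := ModuleCat.projective_of_categoryTheory_projective (ModuleCat.of R M)
    infer_instance
  | n + 1, M, _, _, _, h => by
    obtain ⟨k, f, hf⟩ := Module.Finite.exists_fin' R M
    have h1 := hasProjectiveDimensionLT_of_hasTorDimLE n (LinearMap.ker f)
      ((H8Props.PseudoCoh.hasTorDimLE_succ_iff f hf).mp h)
    haveI : Module.Projective R (ModuleCat.of R (Fin k → R)) := inferInstanceAs (Module.Projective R (Fin k → R))
    haveI := ModuleCat.projective_of_categoryTheory_projective (ModuleCat.of R (Fin k → R))
    exact (H8Props.PseudoCoh.seq_shortExact Subtype.val_injective hf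
      (LinearMap.exact_subtype_ker_map f)).hasProjectiveDimensionLT_X₃ (n + 1) h1 inferInstance

/-- Finite tor dimension and tor amplitude of the naive cotangent complex give a local complete intersection. -/
theorem isLCI_of_torAmplitude {A B : Type u} [CommRing A] [CommRing B] [Algebra A B] [IsNoetherianRing A]
    [Algebra.FiniteType A B] (hB : DRing.HasFiniteTorDim A B)
    (h : DRing.HasTorAmplitudeIn B (-1) 0 (LCI.NL A B)) : LCI.IsLCI A B := by
  classical
  obtain ⟨n, α, hα⟩ := Algebra.FiniteType.iff_quotient_mvPolynomial''.1 (inferInstance : Algebra.FiniteType A B)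
  let G : Generators A B (ULift.{u} (Fin n)) :=
    Generators.ofSurjective (fun i => α (MvPolynomial.X i.down)) fun s => by
      obtain ⟨p, hp⟩ := hα s
      refine ⟨MvPolynomial.rename ULift.up p, ?_⟩
      rw [MvPolynomial.aeval_rename, ← hp]
      exact (AlgHom.congr_fun (MvPolynomial.aeval_unique α) p).symm
  obtain ⟨e⟩ := NLIso.nonempty_iso A B G
  obtain ⟨E, hE, hE', ⟨i⟩⟩ := h
  have hflat := H8Props.NLCx.termwiseFlat_cx G ⟨E, hE, hE', ⟨i ≪≫ e.symm⟩⟩
  haveI : Module.Flat B ((HomologicalComplex.double (ModuleCat.ofHom G.toExtension.cotangentComplex)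
      (show (ComplexShape.up ℤ).Rel (-1) 0 by simp)).X (-1)) := hflat (-1)
  haveI : Module.Flat B G.toExtension.Cotangent :=
    Module.Flat.of_linearEquiv (HomologicalComplex.doubleXIso₀ (ModuleCat.ofHom G.toExtension.cotangentComplex)
      (show (ComplexShape.up ℤ).Rel (-1) 0 by simp)).toLinearEquiv.symm
  haveI : IsNoetherianRing B := Algebra.FiniteType.isNoetherianRing A B
  haveI : Module.Finite B G.toExtension.Cotangent :=
    haveI : IsNoetherianRing G.toExtension.Ring := inferInstanceAs (IsNoetherianRing (MvPolynomial (ULift.{u} (Fin n)) A))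
    Extension.Cotangent.finite (IsNoetherian.noetherian G.toExtension.ker)
  haveI : Module.Projective B G.toExtension.Cotangent :=
    haveI := Module.finitePresentation_of_finite B G.toExtension.Cotangent
    Module.Flat.projective_of_finitePresentation
  let R := MvPolynomial (Fin n) A
  let v : Fin n → B := fun i => α (MvPolynomial.X i)
  have hv : MvPolynomial.aeval v = α := MvPolynomial.algHom_ext fun i => by simp [v]
  let P₀ : Generators A B (Fin n) := Generators.ofSurjective v (by rw [hv]; exact hα)
  haveI := Module.Free.of_basis P₀.cotangentSpaceBasis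
  haveI : Module.Projective B P₀.toExtension.Cotangent :=
    H8Props.NLCx.projective_cotangent (P₀.defaultHom G).toExtensionHom (G.defaultHom P₀).toExtensionHom
  let I : Ideal R := P₀.toExtension.ker
  have hI : I = RingHom.ker α.toRingHom :=
    P₀.ker_eq_ker_aeval_val.trans (congrArg (fun ψ : R →ₐ[A] B => RingHom.ker ψ.toRingHom) hv)
  let eS : (R ⧸ I) ≃+* B := RingHom.quotientKerEquivOfSurjective P₀.toExtension.algebraMap_surjective
  haveI := RingHomInvPair.of_ringEquiv eS
  haveI := RingHomInvPair.symm (↑eS : (R ⧸ I) →+* B) (eS.symm : B →+* _)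
  let e' : I.Cotangent ≃ₛₗ[(eS : (R ⧸ I) →+* B)] P₀.toExtension.Cotangent :=
    { toFun := Extension.Cotangent.of
      invFun := Extension.Cotangent.val
      left_inv := fun _ => rfl
      right_inv := fun _ => rfl
      map_add' := fun _ _ => rfl
      map_smul' := fun c x => by
        obtain ⟨p, rfl⟩ := Ideal.Quotient.mk_surjective (I := I) c
        refine Extension.Cotangent.ext ?_
        rw [show (eS : (R ⧸ I) →+* B) (Ideal.Quotient.mk _ p) = algebraMap P₀.toExtension.Ring B p from
          RingHom.quotientKerEquivOfSurjective_apply_mk P₀.toExtension.algebraMap_surjective p,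
          algebraMap_smul, Extension.Cotangent.val_smul', Extension.Cotangent.val_of,
          Extension.Cotangent.val_of]
        exact algebraMap_smul (R ⧸ I) p x }
  haveI : Module.Projective (R ⧸ I) I.Cotangent := Module.Projective.of_equiv e'.symm
  obtain ⟨d, hd⟩ := hB
  have htd := H8Props.PseudoCoh.tdr_presentation hd n α
  letI := α.toRingHom.toAlgebra
  haveI : IsScalarTower A R B := IsScalarTower.of_algebraMap_eq fun a => (α.commutes a).symm
  have hsub : DRing.HasTorDimLE R (d + n) I := by
    refine H8Props.PseudoCoh.hasTorDimLE_sub (i := I.subtype) (p := Algebra.linearMap R B)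
      Subtype.val_injective hα (fun x => ?_) (H8Props.PseudoCoh.hasTorDimLE_of_flat (d + n) R)
      (H8Props.PseudoCoh.hasTorDimLE_mono (Nat.le_succ _) htd)
    exact ⟨fun hx => ⟨⟨x, hI.ge hx⟩, rfl⟩, by rintro ⟨y, rfl⟩; exact hI.le y.2⟩
  refine ⟨inferInstance, n, α, hα, fun P hP => ?_⟩
  rw [← hI] at hP ⊢
  obtain ⟨g, hg, rs, hrs, hrsI⟩ := Groth.Agent.S2189.result I _
    (hasProjectiveDimensionLT_of_hasTorDimLE (d + n) I hsub) P.asIdeal hP
  exact ⟨g, hg, rs, H29Slice.isKoszulRegular_of_isWeaklyRegular hrs.toIsWeaklyRegular, hrsI.symm⟩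

end Groth.Agent.H11LCI.PerfectNL
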